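import Mathlib.AlgebraicGeometry.Morphisms.FinitePresentation
import Mathlib.AlgebraicGeometry.Limits
import Mathlib.CategoryTheory.Limits.Types.Filtered
import Mathlib.Algebra.Category.Ring.FilteredColimits
import Mathlib.RingTheory.FinitePresentation
import Mathlib.Algebra.MvPolynomial.Rename

/-!
# An affine scheme over an affine base is a limit of affine finitely presented ones
-/

set_option backward.isDefEq.respectTransparency false
set_option backward.isDefEq.respectTransparency.types false

universe u

namespace Groth.Agent.HTopCov.FpApprox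

open CategoryTheory CategoryTheory.Limits AlgebraicGeometry Opposite

section Algebra

variable (B A : Type u) [CommRing B] [CommRing A] [Algebra B A]

/-- A finite set of generators and a finite set of relations among them. -/
structure Idx where
  s : Finset A
  r : Finset (MvPolynomial A B)
  ker : ∀ p ∈ r, MvPolynomial.aeval (R := B) (id : A → A) p = 0
  vars : ∀ p ∈ r, p.vars ⊆ s

instance : Preorder (Idx B A) := Preorder.lift fun i => (i.s, i.r)

instance : Nonempty (Idx B A) := ⟨⟨∅, ∅, by simp, by simp⟩⟩

instance : IsDirectedOrder (Idx B A) := ⟨fun i j => by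
  classical
  refine ⟨⟨i.s ∪ j.s, i.r ∪ j.r, fun p hp => ?_, fun p hp => ?_⟩,
    ⟨Finset.subset_union_left, Finset.subset_union_left⟩, ⟨Finset.subset_union_right, Finset.subset_union_right⟩⟩
  · exact (Finset.mem_union.1 hp).elim (i.ker p) (j.ker p)
  · exact (Finset.mem_union.1 hp).elim (fun h => (i.vars p h).trans Finset.subset_union_left)
      (fun h => (j.vars p h).trans Finset.subset_union_right)⟩

variable {B A}

/-- The relations in the chosen variables. -/
noncomputable def rel (i : Idx B A) : Ideal (MvPolynomial i.s B) :=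
  Ideal.span {p | MvPolynomial.rename Subtype.val p ∈ i.r}

/-- The finitely presented model. -/
abbrev Obj (i : Idx B A) : Type u := MvPolynomial i.s B ⧸ rel i

theorem obj_finitePresentation (i : Idx B A) : Algebra.FinitePresentation B (Obj i) := by
  refine Algebra.FinitePresentation.quotient ?_
  refine Submodule.fg_span (Set.Finite.preimage ?_ i.r.finite_toSet)
  exact (MvPolynomial.rename_injective _ Subtype.val_injective).injOn

/-- The evaluation map to `A`. -/
noncomputable def toA (i : Idx B A) : Obj i →ₐ[B] A :=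
  Ideal.Quotient.liftₐ (rel i) (MvPolynomial.aeval (R := B) fun a : i.s => (a : A)) <| by
    suffices rel i ≤ RingHom.ker (MvPolynomial.aeval (R := B) fun a : i.s => (a : A)) from fun p hp => this hp
    refine Ideal.span_le.2 fun p hp => ?_
    show MvPolynomial.aeval (R := B) (fun a : i.s => (a : A)) p = 0
    have h := i.ker _ hp
    rwa [MvPolynomial.aeval_rename] at h

/-- The transition map. -/
noncomputable def tr {i j : Idx B A} (h : i ≤ j) : Obj i →ₐ[B] Obj j :=
  Ideal.Quotient.liftₐ (rel i)
    ((Ideal.Quotient.mkₐ B (rel j)).comp (MvPolynomial.rename fun a : i.s => (⟨a, h.1 a.2⟩ : j.s))) <| by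
    suffices rel i ≤ RingHom.ker ((Ideal.Quotient.mkₐ B (rel j)).comp
        (MvPolynomial.rename fun a : i.s => (⟨a, h.1 a.2⟩ : j.s))) from fun p hp => this hp
    refine Ideal.span_le.2 fun p hp => ?_
    refine Ideal.Quotient.eq_zero_iff_mem.2 (Ideal.subset_span ?_)
    show MvPolynomial.rename Subtype.val (MvPolynomial.rename _ p) ∈ j.r
    rw [MvPolynomial.rename_rename]
    exact h.2 hp

@[simp]
theorem tr_mk {i j : Idx B A} (h : i ≤ j) (p : MvPolynomial i.s B) :
    tr h (Ideal.Quotient.mk (rel i) p) =
      Ideal.Quotient.mk (rel j) (MvPolynomial.rename (fun a : i.s => (⟨a, h.1 a.2⟩ : j.s)) p) := rfl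

@[simp]
theorem toA_mk (i : Idx B A) (p : MvPolynomial i.s B) :
    toA i (Ideal.Quotient.mk (rel i) p) = MvPolynomial.aeval (R := B) (fun a : i.s => (a : A)) p := rfl

theorem exists_preimage (a : A) : ∃ (i : Idx B A) (x : Obj i), toA i x = a := by
  classical
  refine ⟨⟨{a}, ∅, by simp, by simp⟩, Ideal.Quotient.mk _ (MvPolynomial.X ⟨a, Finset.mem_singleton_self a⟩), ?_⟩
  exact MvPolynomial.aeval_X _ _

theorem exists_tr_eq_zero (i : Idx B A) (x : Obj i) (hx : toA i x = 0) :
    ∃ (j : Idx B A) (h : i ≤ j), tr h x = 0 := by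
  classical
  obtain ⟨p, rfl⟩ := Ideal.Quotient.mk_surjective x
  let q := MvPolynomial.rename (R := B) (Subtype.val : i.s → A) p
  have hq : MvPolynomial.aeval (R := B) (id : A → A) q = 0 := by
    rw [MvPolynomial.aeval_rename]; exact hx
  have hv : q.vars ⊆ i.s := by
    refine (MvPolynomial.vars_rename _ p).trans fun a ha => ?_
    obtain ⟨b, -, rfl⟩ := Finset.mem_image.1 ha
    exact b.2
  refine ⟨⟨i.s, insert q i.r, ?_, ?_⟩, ⟨subset_rfl, Finset.subset_insert _ _⟩, ?_⟩
  · intro p' hp'
    rcases Finset.mem_insert.1 hp' with rfl | h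
    · exact hq
    · exact i.ker _ h
  · intro p' hp'
    rcases Finset.mem_insert.1 hp' with rfl | h
    · exact hv
    · exact i.vars _ h
  · rw [tr_mk, Ideal.Quotient.eq_zero_iff_mem]
    refine Ideal.subset_span ?_
    show MvPolynomial.rename Subtype.val (MvPolynomial.rename _ p) ∈ insert q i.r
    rw [MvPolynomial.rename_rename]
    exact Finset.mem_insert_self q i.r

variable (B A)

/-- The diagram of models. -/
noncomputable def diag : Idx B A ⥤ CommRingCat.{u} where
  obj i := CommRingCat.of (Obj i)
  map f := CommRingCat.ofHom (tr f.le).toRingHom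
  map_id i := by
    refine CommRingCat.hom_ext (RingHom.ext fun x => ?_)
    obtain ⟨p, rfl⟩ := Ideal.Quotient.mk_surjective x
    exact congrArg (Ideal.Quotient.mk (rel i)) (MvPolynomial.rename_id_apply p)
  map_comp f g := by
    refine CommRingCat.hom_ext (RingHom.ext fun x => ?_)
    obtain ⟨p, rfl⟩ := Ideal.Quotient.mk_surjective x
    simp [MvPolynomial.rename_rename, Function.comp_def]

/-- The cocone with point `A`. -/
noncomputable def cocone : Cocone (diag B A) where
  pt := CommRingCat.of A
  ι :=
    { app := fun i => CommRingCat.ofHom (toA i).toRingHom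
      naturality := fun i j f => by
        refine CommRingCat.hom_ext (RingHom.ext fun x => ?_)
        obtain ⟨p, rfl⟩ := Ideal.Quotient.mk_surjective x
        simp [diag, MvPolynomial.aeval_rename, Function.comp_def] }

/-- `A` is the colimit of its finitely presented models. -/
noncomputable def isColimit : IsColimit (cocone B A) := by
  haveI : ReflectsColimit (diag B A) (forget CommRingCat) := reflectsColimit_of_reflectsIsomorphisms _ _
  refine isColimitOfReflects (forget CommRingCat) ?_
  refine Types.FilteredColimit.isColimitOf _ _ (fun a => ?_) fun i j x y hxy => ?_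
  · obtain ⟨i, x, hx⟩ := exists_preimage (B := B) (A := A) a
    exact ⟨i, x, hx.symm⟩
  · obtain ⟨k, hik, hjk⟩ := exists_ge_ge i j
    have h0 : toA k (tr hik x - tr hjk y) = 0 := by
      obtain ⟨p, rfl⟩ := Ideal.Quotient.mk_surjective x
      obtain ⟨q, rfl⟩ := Ideal.Quotient.mk_surjective y
      rw [map_sub, sub_eq_zero]
      simp only [tr_mk, toA_mk, MvPolynomial.aeval_rename, Function.comp_def]
      exact hxy
    obtain ⟨l, hkl, hl⟩ := exists_tr_eq_zero k _ h0
    refine ⟨l, homOfLE (hik.trans hkl), homOfLE (hjk.trans hkl), ?_⟩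
    have e : ∀ {i k l : Idx B A} (h : i ≤ k) (h' : k ≤ l) (x : Obj i), tr h' (tr h x) = tr (h.trans h') x := by
      intro i k l h h' x
      obtain ⟨p, rfl⟩ := Ideal.Quotient.mk_surjective x
      simp [MvPolynomial.rename_rename, Function.comp_def]
    rw [map_sub, sub_eq_zero, e, e] at hl
    exact hl

end Algebra

/-- An affine scheme over an affine one is a cofiltered limit of affine finitely presented ones. -/
theorem exists_limit {X Y : Scheme.{u}} [IsAffine X] [IsAffine Y] (f : X ⟶ Y) :
    ∃ (I : Type u) (_ : SmallCategory I) (_ : IsCofiltered I) (D : I ⥤ Over Y) (c : Cone D)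
      (_ : IsLimit ((Over.forget Y).mapCone c)) (_ : c.pt ≅ Over.mk f),
      (∀ i, IsAffine (D.obj i).left) ∧ ∀ i, LocallyOfFinitePresentation (D.obj i).hom := by
  let B := Γ(Y, ⊤)
  let A := Γ(X, ⊤)
  letI : Algebra B A := f.appTop.hom.toAlgebra
  let G := (diag B A).op ⋙ Scheme.Spec
  let cG := Scheme.Spec.mapCone (cocone B A).op
  have hG : IsLimit cG := isLimitOfPreserves Scheme.Spec (isColimit B A).op
  let str : ∀ i : (Idx B A)ᵒᵖ, G.obj i ⟶ Y := fun i =>
    Spec.map (CommRingCat.ofHom (algebraMap B (Obj i.unop))) ≫ Y.isoSpec.inv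
  have hstr : ∀ {i j : (Idx B A)ᵒᵖ} (g : i ⟶ j), G.map g ≫ str j = str i := fun {i j} g => by
    show Spec.map _ ≫ Spec.map _ ≫ _ = Spec.map _ ≫ _
    rw [← Spec.map_comp_assoc]
    congr 2
    ext b
    exact (tr g.unop.le).commutes b
  let D : (Idx B A)ᵒᵖ ⥤ Over Y :=
    { obj := fun i => Over.mk (str i)
      map := fun g => Over.homMk (G.map g) (hstr g)
      map_id := fun i => by ext1; exact G.map_id i
      map_comp := fun g g' => by ext1; exact G.map_comp g g' }
  let c : Cone D :=
    { pt := Over.mk (Spec.map f.appTop ≫ Y.isoSpec.inv)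
      π :=
        { app := fun i => Over.homMk (cG.π.app i) (by
            show Spec.map _ ≫ Spec.map _ ≫ _ = Spec.map f.appTop ≫ _
            rw [← Spec.map_comp_assoc]
            congr 2
            ext b
            exact (toA i.unop).commutes b)
          naturality := fun i j g => by ext1; exact cG.π.naturality g } }
  refine ⟨(Idx B A)ᵒᵖ, inferInstance, inferInstance, D, c, hG,
    Over.isoMk X.isoSpec.symm ?_, fun i => inferInstanceAs (IsAffine (Spec _)), fun i => ?_⟩
  · show X.isoSpec.inv ≫ f = Spec.map f.appTop ≫ Y.isoSpec.inv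
    rw [Scheme.isoSpec_inv_naturality]
  · have h : LocallyOfFinitePresentation (Spec.map (CommRingCat.ofHom (algebraMap B (Obj i.unop)))) := by
      rw [HasRingHomProperty.Spec_iff (P := @LocallyOfFinitePresentation)]
      exact RingHom.finitePresentation_algebraMap.2 (obj_finitePresentation i.unop)
    show LocallyOfFinitePresentation (str i)
    infer_instance

end Groth.Agent.HTopCov.FpApprox
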