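import Groth.Agent.HTopCov.Points
import Groth.Agent.S2121
import Mathlib.AlgebraicGeometry.AffineTransitionLimit
import Mathlib.CategoryTheory.Comma.Over.Pullback
import Mathlib.CategoryTheory.Limits.Constructions.Over.Connected

/-!
# Valuative lifting passes to cofiltered limits of affine schemes
-/

set_option backward.isDefEq.respectTransparency false
set_option backward.isDefEq.respectTransparency.types false

universe w u

namespace Groth.Agent.HTopCov

open CategoryTheory CategoryTheory.Limits AlgebraicGeometry IsLocalRing HTop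

/-- If every member of a cofiltered system over `Spec V` has a specialization over the generic and closed
points, so does the limit. -/
theorem exists_specializes_limit {V : CommRingCat.{u}} [IsDomain V] [ValuationRing V]
    {I : Type u} [SmallCategory I] [IsCofiltered I] (D : I ⥤ Over (Spec V)) [∀ i, IsAffine (D.obj i).left]
    (c : Cone D) (hc : IsLimit c)
    (h : ∀ i, ∃ q p : (D.obj i).left, q ⤳ p ∧ (D.obj i).hom q = (⊥ : PrimeSpectrum V) ∧
      (D.obj i).hom p = closedPoint V) :
    ∃ q p : c.pt.left, q ⤳ p ∧ c.pt.hom q = (⊥ : PrimeSpectrum V) ∧ c.pt.hom p = closedPoint V := by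
  let E := D ⋙ Over.forget _
  let cE := (Over.forget _).mapCone c
  haveI : IsConnected I := IsCofiltered.isConnected I
  have hcE : IsLimit cE := isLimitOfPreserves (Over.forget _) hc
  haveI : ∀ i, IsAffine (E.obj i) := fun i => inferInstanceAs (IsAffine (D.obj i).left)
  haveI : ∀ {i j : I} (f : i ⟶ j), IsAffineHom (E.map f) := fun f => inferInstance
  haveI : IsAffine c.pt.left := Scheme.isAffine_of_isLimit cE hcE
  have hw : ∀ {i j : I} (f : i ⟶ j) (z : E.obj i), (D.obj j).hom (E.map f z) = (D.obj i).hom z :=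
    fun f z => (Scheme.Hom.comp_apply _ _ z).symm.trans (congrArg (fun m : _ ⟶ Spec V => m z) (Over.w (D.map f)))
  have hcw : ∀ (i : I) (z : c.pt.left), (D.obj i).hom (cE.π.app i z) = c.pt.hom z :=
    fun i z => (Scheme.Hom.comp_apply _ _ z).symm.trans (congrArg (fun m : _ ⟶ Spec V => m z) (Over.w (c.π.app i)))
  -- the point over the closed point
  let Z : ∀ i, Set (E.obj i) := fun i =>
    closure ((D.obj i).hom ⁻¹' {(⊥ : PrimeSpectrum V)}) ∩ (D.obj i).hom ⁻¹' {closedPoint V}
  obtain ⟨i₀⟩ := IsCofiltered.nonempty (C := I)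
  have hZc : ∀ i, IsClosed (Z i) := fun i =>
    isClosed_closure.inter ((IsLocalRing.isClosed_singleton_closedPoint V).preimage (D.obj i).hom.continuous)
  obtain ⟨p, hp⟩ := exists_mem_of_isClosed_of_nonempty' E cE hcE (j := i₀) (fun i _ => Z i) (fun i _ => hZc i)
    (fun i _ => by
      obtain ⟨q, p, hqp, hq, hp⟩ := h i
      exact ⟨p, closure_mono (Set.singleton_subset_iff.2 (show q ∈ (D.obj i).hom ⁻¹' {(⊥ : PrimeSpectrum V)} from hq)) (specializes_iff_mem_closure.1 hqp), hp⟩)
    (fun i _ => (hZc i).isCompact)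
    (fun i i' f _ z hz => ⟨map_mem_closure (E.map f).continuous hz.1 fun a (ha : (D.obj i').hom a = _) =>
      (hw f a).trans ha, (hw f z).trans hz.2⟩)
  have hp₀ : ∀ i, cE.π.app i p ∈ Z i := fun i => by
    obtain ⟨k, a, b, -⟩ := IsCofilteredOrEmpty.cone_objs i i₀
    have hk := hp k b
    have e : cE.π.app i p = E.map a (cE.π.app k p) := by rw [← Scheme.Hom.comp_apply, cE.w a]; rfl
    rw [e]
    exact ⟨map_mem_closure (E.map a).continuous hk.1 fun z (hz : (D.obj k).hom z = _) => (hw a z).trans hz,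
      (hw a _).trans hk.2⟩
  have hpc : c.pt.hom p = closedPoint V := (hcw i₀ p).symm.trans (hp₀ i₀).2
  -- it lies in the closure of the generic fibre
  let K := FractionRing V
  let k : Spec (CommRingCat.of K) ⟶ Spec V := Spec.map (CommRingCat.ofHom (algebraMap V K))
  have hk : Set.range k = {(⊥ : PrimeSpectrum V)} := by
    have e : k (⊥ : PrimeSpectrum K) = (⊥ : PrimeSpectrum V) :=
      PrimeSpectrum.ext ((RingHom.injective_iff_ker_eq_bot _).1 (IsFractionRing.injective V K))
    ext z
    refine ⟨?_, fun hz => ⟨(⊥ : PrimeSpectrum K), e.trans hz.symm⟩⟩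
    rintro ⟨w, rfl⟩
    exact (congrArg k (Subsingleton.elim (α := PrimeSpectrum K) w ⊥)).trans e
  let α : pullback c.pt.hom k ⟶ c.pt.left := pullback.fst _ _
  have hα : Set.range α = c.pt.hom ⁻¹' {(⊥ : PrimeSpectrum V)} := by
    rw [← hk]; exact Scheme.Pullback.range_fst c.pt.hom k
  haveI : QuasiCompact α := inferInstance
  suffices hp' : p ∈ closure (Set.range α) by
    obtain ⟨A, _, _, _, x, y, hxy, hy⟩ := Groth.Agent.S2121.result α p hp'
    let η : PrimeSpectrum (FractionRing A) := ⊥
    refine ⟨α (x η), p, ?_, ?_, hpc⟩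
    · rw [← Scheme.Hom.comp_apply x α, hxy, Scheme.Hom.comp_apply]
      exact hy ▸ (IsLocalRing.specializes_closedPoint _).map y.continuous
    · exact (hα.subset ⟨x η, rfl⟩ : _)
  rw [mem_closure_iff]
  intro O hO hpO
  by_contra hne
  obtain ⟨_, ⟨U, ⟨i, U₀, hU₀, rfl⟩, rfl⟩, hpU, hUO⟩ :=
    (isBasis_preimage_isAffineOpen E cE hcE).exists_subset_of_mem_open hpO hO
  have hempty : α ⁻¹ᵁ (cE.π.app i ⁻¹ᵁ U₀) = ⊥ := by
    ext z
    refine ⟨fun hz => hne ⟨α z, hUO hz, ⟨z, rfl⟩⟩, fun hz => hz.elim⟩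
  -- the generic fibres
  let D' := D ⋙ Over.pullback k
  let cK := (Over.forget _).mapCone ((Over.pullback k).mapCone c)
  have hcK : IsLimit cK := isLimitOfPreserves (Over.forget _) (isLimitOfPreserves (Over.pullback k) hc)
  let EK := D' ⋙ Over.forget _
  haveI : ∀ j, IsAffine (EK.obj j) := fun j => inferInstanceAs (IsAffine (pullback (D.obj j).hom k))
  haveI : ∀ {i j : I} (f : i ⟶ j), IsAffineHom (EK.map f) := fun f => inferInstance
  let W : (EK.obj i).Opens := (pullback.fst (D.obj i).hom k) ⁻¹ᵁ U₀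
  have hW : IsCompact (W : Set (EK.obj i)) :=
    QuasiCompact.isCompact_preimage (f := pullback.fst (D.obj i).hom k) _ U₀.2 hU₀.isCompact
  have hle : cK.π.app i ⁻¹ᵁ W ≤ cK.π.app i ⁻¹ᵁ ⊥ := by
    intro z hz
    exfalso
    have e : (cK.π.app i ≫ pullback.fst (D.obj i).hom k) = α ≫ cE.π.app i := by
      simp [cK, α, cE, E]
    have hz' : (pullback.fst (D.obj i).hom k) (cK.π.app i z) ∈ U₀ := hz
    have hz'' := (congrArg (fun m : _ ⟶ (D.obj i).left => m z) e).symm.trans
      (Scheme.Hom.comp_apply (cK.π.app i) (pullback.fst (D.obj i).hom k) z)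
    replace hz' : cE.π.app i (α z) ∈ U₀ := (hz''.trans rfl).symm ▸ hz'
    exact (hempty.le hz' : z ∈ (⊥ : (pullback c.pt.hom k).Opens)).elim
  obtain ⟨j, f, hj⟩ := exists_map_preimage_le_map_preimage EK cK hcK hW hle
  have hpj : cE.π.app j p ∈ E.map f ⁻¹ᵁ U₀ := by
    show E.map f (cE.π.app j p) ∈ U₀
    rw [← Scheme.Hom.comp_apply, cE.w f]
    exact hpU
  obtain ⟨q, hqU, hq⟩ := mem_closure_iff.1 (hp₀ j).1 _ (E.map f ⁻¹ᵁ U₀).2 hpj
  obtain ⟨z, rfl⟩ : q ∈ Set.range (pullback.fst (D.obj j).hom k) := by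
    rw [Scheme.Pullback.range_fst, Set.mem_preimage, hk]; exact hq
  have e : EK.map f ≫ pullback.fst (D.obj i).hom k = pullback.fst (D.obj j).hom k ≫ E.map f := by
    simp [EK, D', E]
  have hz : z ∈ EK.map f ⁻¹ᵁ W := by
    show pullback.fst (D.obj i).hom k (EK.map f z) ∈ U₀
    have hz' : pullback.fst (D.obj i).hom k (EK.map f z) = E.map f (pullback.fst (D.obj j).hom k z) :=
      (Scheme.Hom.comp_apply (EK.map f) (pullback.fst (D.obj i).hom k) z).symm.trans
        (congrArg (fun m : _ ⟶ (D.obj i).left => m z) e)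
    exact hz'.symm ▸ hqU
  exact (hj hz).elim

/-- The valuative lifting property passes to cofiltered limits of affine schemes over an affine base. -/
theorem hasValLift_limit {Y : Scheme.{u}} [IsAffine Y] {I : Type u} [SmallCategory I] [IsCofiltered I]
    (D : I ⥤ Over Y) [∀ i, IsAffine (D.obj i).left] (c : Cone D) (hc : IsLimit c)
    (h : ∀ i, HasValLift (PreZeroHypercover.singleton.{w} (D.obj i).hom)) :
    HasValLift (PreZeroHypercover.singleton.{w} c.pt.hom) := by
  intro V _ _ g
  let D' := D ⋙ Over.pullback g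
  haveI : ∀ i, IsAffine (D'.obj i).left := fun i => inferInstanceAs (IsAffine (pullback (D.obj i).hom g))
  obtain ⟨q, p, hqp, hq, hp⟩ := exists_specializes_limit D' ((Over.pullback g).mapCone c)
    (isLimitOfPreserves (Over.pullback g) hc) (fun i => by
      obtain ⟨W, hW, hW', φ, hφ, j, l, hl⟩ := h i V g
      haveI := hφ.2
      let l' : Spec W ⟶ (D.obj i).left := l
      have hl' : l' ≫ (D.obj i).hom = Spec.map φ ≫ g := hl
      let m : Spec W ⟶ pullback (D.obj i).hom g := pullback.lift l' (Spec.map φ) hl'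
      refine ⟨m (⊥ : PrimeSpectrum W), m (closedPoint W),
        (IsLocalRing.specializes_closedPoint _).map m.continuous, ?_, ?_⟩
      · show pullback.snd (D.obj i).hom g (m _) = _
        rw [← Scheme.Hom.comp_apply, pullback.lift_snd]
        exact PrimeSpectrum.ext ((RingHom.injective_iff_ker_eq_bot _).1 hφ.1)
      · show pullback.snd (D.obj i).hom g (m _) = _
        rw [← Scheme.Hom.comp_apply, pullback.lift_snd]
        exact IsLocalRing.comap_closedPoint φ.hom)
  obtain ⟨W, hW, hW', φ, l, hφ, hl, -⟩ := exists_ext_of_points (pullback.snd c.pt.hom g) hqp hq hp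
  refine ⟨W, hW, hW', φ, hφ, PUnit.unit, l ≫ pullback.fst c.pt.hom g, ?_⟩
  show (l ≫ pullback.fst c.pt.hom g) ≫ c.pt.hom = _
  rw [Category.assoc, pullback.condition, reassoc_of% hl]

end Groth.Agent.HTopCov
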