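import Groth.Agent.HTopCov.OverCriterionP
import Groth.Agent.HTopCov.LimitV
import Groth.Agent.HTopCov.FpApprox
import Groth.Agent.HTopCov.Spec

/-!
Limit preserving h sheaves are V sheaves.
-/

set_option backward.isDefEq.respectTransparency false
set_option backward.isDefEq.respectTransparency.types false

universe w v u

namespace Groth.Agent.HTopCov.VFromH

open CategoryTheory CategoryTheory.Limits AlgebraicGeometry HTop Opposite OverCrit IsLocalRing

variable {S : Scheme.{u}} {F : (Over S)ᵒᵖ ⥤ Type w}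

/-- Affine morphisms with the valuative lifting property. -/
def AffLift : MorphismProperty Scheme.{u} :=
  fun _ _ f => IsAffineHom f ∧ HasValLift (PreZeroHypercover.singleton.{0} f)

instance : (AffLift.{u}).IsStableUnderBaseChange := by
  refine ⟨fun {X Y Y' S f g f' g'} sq h => ⟨MorphismProperty.of_isPullback (P := @IsAffineHom) sq h.1, ?_⟩⟩
  intro V _ _ g₀
  obtain ⟨W, hW, hW', φ, hφ, j, l, hl⟩ := h.2 V (g₀ ≫ f)
  refine ⟨W, hW, hW', φ, hφ, PUnit.unit, sq.lift l (Spec.map φ ≫ g₀) ?_, sq.lift_snd _ _ _⟩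
  exact hl.trans (Category.assoc _ _ _).symm

/-- A family with sheaf property after every base change is covering for the finest topology. -/
theorem mem_descTop {T : Scheme.{u}} (E : PreZeroHypercover.{v} T)
    (h : ∀ (Y : Over S) (c : Y.left ⟶ T), Presieve.IsSheafFor F (Presieve.ofArrows
      (fun i => Over.mk (pullback.fst c (E.f i) ≫ Y.hom))
      (fun i => (Over.homMk (pullback.fst c (E.f i)) rfl : _ ⟶ Y)))) :
    Sieve.generate E.presieve₀ ∈ descTop (Sheaf.finestTopologySingle F) T := by
  intro T' g p Y k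
  let c := k.left ≫ g
  have h' := h Y c
  rw [Presieve.isSheafFor_iff_generate] at h'
  convert h' using 2
  ext Z l
  constructor
  · rintro ⟨_, a, _, ⟨i⟩, ha⟩
    refine ⟨_, Over.homMk (pullback.lift l.left a (by
      rw [show l.left ≫ c = (l ≫ k).left ≫ g by simp [c]]
      exact ha.symm)) (by
        show pullback.lift _ _ _ ≫ pullback.fst c (E.f i) ≫ _ = Z.hom
        rw [pullback.lift_fst_assoc]; exact Over.w l), _, ⟨i⟩, Over.OverMorphism.ext (pullback.lift_fst _ _ _)⟩
  · rintro ⟨_, a, _, ⟨i⟩, rfl⟩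
    refine ⟨_, a.left ≫ pullback.snd c (E.f i), E.f i, ⟨i⟩, ?_⟩
    show (a.left ≫ pullback.snd c (E.f i)) ≫ E.f i = ((a ≫ _) ≫ k).left ≫ g
    simp [c, ← pullback.condition]

theorem hTopology_le (h1 : IsHSheafOver S F) : hTopology ≤ descTop (Sheaf.finestTopologySingle F) := by
  rw [hTopology, Precoverage.toGrothendieck_le_iff_le_toPrecoverage]
  intro X R hR
  rw [GrothendieckTopology.mem_toPrecoverage_iff]
  obtain ⟨E, hE, rfl⟩ := PreZeroHypercoverFamily.mem_precoverage_iff.mp hR
  refine mem_descTop E fun Y c => h1 _ ?_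
  rw [Presieve.map_ofArrows]
  exact (presieve₀_mem_hPrecoverage_iff (E.pullback₁ c)).mpr
    ⟨fun l => MorphismProperty.pullback_fst (P := @LocallyOfFinitePresentation) _ _ (hE.1 l),
      isVCover_pullback₁ _ E hE.2⟩

theorem isSheaf_of_le {J₀ : GrothendieckTopology Scheme.{u}} (hle : J₀ ≤ descTop (Sheaf.finestTopologySingle F)) :
    Presieve.IsSheaf (J₀.over S) F := by
  intro X R hR
  rw [GrothendieckTopology.mem_over_iff] at hR
  have h := hle _ hR X.left (𝟙 _) X.hom X (𝟙 _)
  rw [Sieve.pullback_id] at h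
  exact Eq.mp (congrArg (fun R' : Sieve X => Presieve.IsSheafFor F R'.arrows)
    ((Sieve.overEquiv X).symm_apply_apply R)) h

/-- The sheaf property for an affine morphism with valuative lifting over an affine target. -/
theorem isSheafFor_affLift (h1 : IsHSheafOver S F)
    (h2 : ∀ (I : Type u) [SmallCategory I] [IsCofiltered I] (D : I ⥤ Over S),
      (∀ i, IsAffine (D.obj i).left) → ∀ (c : Cone D), IsLimit ((Over.forget S).mapCone c) →
        Nonempty (IsColimit (F.mapCocone c.op)))
    (U V : Over S) (f : V ⟶ U) (hU : IsAffine U.left) (hf : AffLift f.left) :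
    Presieve.IsSheafFor F (Presieve.singleton f) := by
  haveI := hf.1
  haveI : IsAffine V.left := isAffine_of_isAffineHom f.left
  obtain ⟨I, _, _, D, c, hc, e, haff, hlfp⟩ := FpApprox.exists_limit f.left
  haveI := haff
  -- the system over `S`
  let DS : I ⥤ Over S := D ⋙ Over.map U.hom
  haveI : ∀ i, IsAffine (DS.obj i).left := haff
  let fi : ∀ i, DS.obj i ⟶ U := fun i => Over.homMk (D.obj i).hom rfl
  have hfi : ∀ {i j : I} (a : i ⟶ j), DS.map a ≫ fi j = fi i := fun a => Over.OverMorphism.ext (Over.w (D.map a))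
  have eh : e.inv.left ≫ c.pt.hom = f.left := Over.w e.inv
  let π : ∀ i, V ⟶ DS.obj i := fun i => Over.homMk (e.inv.left ≫ (c.π.app i).left) (by
    show (e.inv.left ≫ (c.π.app i).left) ≫ (D.obj i).hom ≫ U.hom = V.hom
    rw [← Category.assoc _ (D.obj i).hom, show (e.inv.left ≫ (c.π.app i).left) ≫ (D.obj i).hom = f.left from
      Over.w (e.inv ≫ c.π.app i)]
    exact Over.w f)
  have hπ : ∀ {i j : I} (a : i ⟶ j), π i ≫ DS.map a = π j := fun a => Over.OverMorphism.ext (by
    show (e.inv.left ≫ _) ≫ _ = _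
    rw [Category.assoc]
    exact congrArg (e.inv.left ≫ ·) (congrArg Over.Hom.left (c.w a)))
  have hπf : ∀ i, π i ≫ fi i = f := fun i => Over.OverMorphism.ext (Over.w (e.inv ≫ c.π.app i))
  let cS : Cone DS := { pt := V, π := { app := π, naturality := fun i j a => by simp [hπ a] } }
  have hcS : IsLimit ((Over.forget S).mapCone cS) := IsLimit.ofIsoLimit hc
    (Cone.ext ((Over.forget _).mapIso e) fun i => by
      show (c.π.app i).left = e.hom.left ≫ e.inv.left ≫ (c.π.app i).left
      rw [← Category.assoc, ← Over.comp_left, e.hom_inv_id]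
      exact (Category.id_comp _).symm)
  obtain ⟨hF1⟩ := h2 I DS inferInstance cS hcS
  -- the h covers
  have hcov : ∀ i, Presieve.IsSheafFor F (Presieve.singleton (fi i)) := fun i => by
    refine h1 _ ?_
    rw [Presieve.map_singleton]
    show Presieve.singleton (D.obj i).hom ∈ hPrecoverage U.left
    suffices hE : IsHCover (PreZeroHypercover.singleton.{0} (D.obj i).hom) by
      have := (presieve₀_mem_hPrecoverage_iff _).mpr hE
      rwa [PreZeroHypercover.presieve₀_singleton] at this
    refine ⟨fun _ => hlfp i, ?_⟩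
    refine isVCover_of_hasValLift (D.obj i).hom fun W _ _ g => ?_
    obtain ⟨W', hW, hW', φ, hφ, j, g', hg'⟩ := hf.2 W g
    refine ⟨W', hW, hW', φ, hφ, PUnit.unit, g' ≫ (π i).left, ?_⟩
    exact (Category.assoc _ _ _).trans ((congrArg (g' ≫ ·) (congrArg Over.Hom.left (hπf i))).trans hg')
  rw [Presieve.isSheafFor_singleton]
  intro s hs
  -- the squares
  let D₂ : I ⥤ Over S :=
    { obj := fun i => pullback (fi i) (fi i)
      map := fun {i j} a => pullback.map _ _ _ _ (DS.map a) (DS.map a) (𝟙 _)
        (by rw [hfi a, Category.comp_id]) (by rw [hfi a, Category.comp_id])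
      map_id := fun i => pullback.hom_ext (by simp) (by simp)
      map_comp := fun a b => pullback.hom_ext (by simp) (by simp) }
  haveI : ∀ i, IsAffine (D₂.obj i).left := fun i => by
    have sq : IsPullback (pullback.fst (fi i) (fi i)).left (pullback.snd (fi i) (fi i)).left (fi i).left (fi i).left :=
      (IsPullback.of_hasPullback (fi i) (fi i)).map (Over.forget S)
    haveI : IsAffine (pullback (fi i).left (fi i).left) := inferInstance
    exact IsAffine.of_isIso sq.isoPullback.hom
  let c₂ : Cone D₂ :=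
    { pt := pullback f f
      π :=
        { app := fun i => pullback.map _ _ _ _ (π i) (π i) (𝟙 _) (by rw [hπf, Category.comp_id]) (by rw [hπf, Category.comp_id])
          naturality := fun i j a => pullback.hom_ext (by simp [D₂, hπ a]) (by simp [D₂, hπ a]) } }
  haveI : IsConnected I := IsCofiltered.isConnected I
  have hVlim : IsLimit cS := isLimitOfReflects (Over.forget S) hcS
  have hc₂ : IsLimit ((Over.forget S).mapCone c₂) := by
    refine isLimitOfPreserves (Over.forget S) (?_ : IsLimit c₂)
    let i₀ : I := (IsCofiltered.nonempty (C := I)).some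
    let pr₁ : ∀ t : Cone D₂, Cone DS := fun t =>
      { pt := t.pt
        π := { app := fun i => t.π.app i ≫ pullback.fst _ _,
               naturality := fun i j a => by simp [← t.w a, D₂] } }
    let pr₂ : ∀ t : Cone D₂, Cone DS := fun t =>
      { pt := t.pt
        π := { app := fun i => t.π.app i ≫ pullback.snd _ _,
               naturality := fun i j a => by simp [← t.w a, D₂] } }
    have hl₁ : ∀ t i, hVlim.lift (pr₁ t) ≫ π i = t.π.app i ≫ pullback.fst _ _ := fun t i => hVlim.fac (pr₁ t) i
    have hl₂ : ∀ t i, hVlim.lift (pr₂ t) ≫ π i = t.π.app i ≫ pullback.snd _ _ := fun t i => hVlim.fac (pr₂ t) i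
    refine
      { lift := fun t => pullback.lift (hVlim.lift (pr₁ t)) (hVlim.lift (pr₂ t)) (by
          rw [← hπf i₀, ← Category.assoc, ← Category.assoc, hl₁, hl₂, Category.assoc, Category.assoc,
            pullback.condition])
        fac := fun t i => pullback.hom_ext (by simpa [c₂] using hl₁ t i) (by simpa [c₂] using hl₂ t i)
        uniq := fun t m hm => pullback.hom_ext ?_ ?_ }
    · rw [pullback.lift_fst]
      refine hVlim.uniq (pr₁ t) _ fun i => ?_
      show (m ≫ pullback.fst f f) ≫ π i = t.π.app i ≫ pullback.fst _ _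
      simp [← hm i, c₂]
    · rw [pullback.lift_snd]
      refine hVlim.uniq (pr₂ t) _ fun i => ?_
      show (m ≫ pullback.snd f f) ≫ π i = t.π.app i ≫ pullback.snd _ _
      simp [← hm i, c₂]
  obtain ⟨hF2⟩ := h2 I D₂ inferInstance c₂ hc₂
  obtain ⟨⟨i⟩, si, hsi⟩ := Types.jointly_surjective_of_isColimit hF1 s
  replace hsi : F.map (π i).op si = s := hsi
  have key : F.map (c₂.π.app i).op (F.map (pullback.fst (fi i) (fi i)).op si) =
      F.map (c₂.π.app i).op (F.map (pullback.snd (fi i) (fi i)).op si) := by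
    have e1 : c₂.π.app i ≫ pullback.fst (fi i) (fi i) = pullback.fst f f ≫ π i := pullback.lift_fst _ _ _
    have e2 : c₂.π.app i ≫ pullback.snd (fi i) (fi i) = pullback.snd f f ≫ π i := pullback.lift_snd _ _ _
    erw [← Functor.map_comp_apply, ← Functor.map_comp_apply, ← op_comp, ← op_comp, e1, e2, op_comp, op_comp,
      Functor.map_comp_apply, Functor.map_comp_apply, hsi]
    exact hs _ _ pullback.condition
  obtain ⟨⟨j⟩, ⟨a⟩, hj⟩ := (Types.FilteredColimit.isColimit_eq_iff' hF2 _ _).mp key
  replace hj : F.map (D₂.map a).op (F.map (pullback.fst (fi i) (fi i)).op si) =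
      F.map (D₂.map a).op (F.map (pullback.snd (fi i) (fi i)).op si) := hj
  let sj := F.map (DS.map a).op si
  have hsj : F.map (π j).op sj = s := by
    rw [← hsi]
    show F.map (π j).op (F.map (DS.map a).op si) = _
    rw [← Functor.map_comp_apply, ← op_comp, hπ a]
  obtain ⟨x, hx, -⟩ := Presieve.isSheafFor_singleton.mp (hcov j) sj (fun {Z} p₁ p₂ he => by
    have h3 := congrArg (F.map (pullback.lift p₁ p₂ he).op) hj
    simpa only [sj, D₂, ← Functor.map_comp_apply, ← op_comp, pullback.lift_fst, pullback.lift_snd,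
      pullback.map, pullback.lift_fst_assoc, pullback.lift_snd_assoc] using h3)
  refine ⟨x, ?_, fun y hy => ?_⟩
  · show F.map f.op x = s
    rw [← hπf j, op_comp, Functor.map_comp_apply, hx, hsj]
  · have hxs : F.map f.op x = s := by rw [← hπf j, op_comp, Functor.map_comp_apply, hx, hsj]
    have heq : F.map (π i).op (F.map (fi i).op y) = F.map (π i).op (F.map (fi i).op x) := by
      simp only [← Functor.map_comp_apply, ← op_comp, hπf]
      exact hy.trans hxs.symm
    obtain ⟨⟨k⟩, ⟨b⟩, hk⟩ := (Types.FilteredColimit.isColimit_eq_iff' hF1 _ _).mp heq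
    replace hk : F.map (DS.map b).op (F.map (fi i).op y) = F.map (DS.map b).op (F.map (fi i).op x) := hk
    simp only [← Functor.map_comp_apply, ← op_comp, hfi] at hk
    refine (hcov k).isSeparatedFor.ext ?_
    rintro _ _ ⟨⟩
    exact hk

theorem isVSheafOver (h1 : IsHSheafOver S F)
    (h2 : ∀ (I : Type u) [SmallCategory I] [IsCofiltered I] (D : I ⥤ Over S),
      (∀ i, IsAffine (D.obj i).left) → ∀ (c : Cone D), IsLimit ((Over.forget S).mapCone c) →
        Nonempty (IsColimit (F.mapCocone c.op))) :
    IsVSheafOver S F := by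
  let J := descTop (Sheaf.finestTopologySingle F)
  have hz : Scheme.zariskiTopology ≤ J := zariski_le_h.trans (hTopology_le h1)
  have hzs : Presieve.IsSheaf (Scheme.zariskiTopology.over S) F := isSheaf_of_le hz
  have hsing : ∀ {X T : Scheme.{u}} (f : X ⟶ T), AffLift f →
      Sieve.generate (Presieve.singleton f) ∈ J T := by
    intro X T f hf
    have := mem_descTop (S := S) (F := F) (PreZeroHypercover.singleton.{u} f) fun Y c => by
      rw [Presieve.ofArrows_of_unique]
      exact OverCritP.isSheafFor_of_affine (P := AffLift) hzs (isSheafFor_affLift h1 h2) _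
        (MorphismProperty.pullback_fst (P := AffLift) c f hf)
    rwa [PreZeroHypercover.presieve₀_singleton] at this
  have hV : ∀ {T : Scheme.{u}} (E : PreZeroHypercover.{0} T), IsStandardV E →
      Sieve.generate E.presieve₀ ∈ J T := by
    intro T E hE
    haveI := hE.finite_index
    haveI := hE.isAffine
    haveI : ∀ i, IsAffine (E.X i) := hE.isAffine_obj
    have hd : AffLift (Sigma.desc E.f) := by
      refine ⟨inferInstance, fun V _ _ g => ?_⟩
      obtain ⟨W, hW, hW', φ, hφ, j, l, hl⟩ := hE.lift V g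
      refine ⟨W, hW, hW', φ, hφ, PUnit.unit, l ≫ Sigma.ι E.X j, ?_⟩
      change (l ≫ Sigma.ι E.X j) ≫ Sigma.desc E.f = _
      rw [Category.assoc, Sigma.ι_desc, hl]
    refine J.transitive (hsing _ hd) _ ?_
    rintro Z _ ⟨_, b, _, ⟨⟩, rfl⟩
    rw [Sieve.pullback_comp]
    refine J.pullback_stable b (J.superset_covering ?_ (hz _ (AlgebraicGeometry.sigmaOpenCover E.X).mem_grothendieckTopology))
    refine (Sieve.generate_le_iff _ _).mpr (Presieve.ofArrows_le_iff.mpr fun i => ?_)
    exact ⟨E.X i, 𝟙 _, E.f i, ⟨i⟩, (Category.id_comp _).trans (Sigma.ι_desc E.f i).symm⟩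
  intro X R hR
  obtain ⟨E, hE, hER⟩ := PreZeroHypercoverFamily.mem_precoverage_iff.mp hR
  have hmem : Sieve.generate (R.map (Over.forget S)) ∈ J X.left := by
    rw [hER]
    refine J.transitive (hz _ X.left.affineCover.mem_grothendieckTopology) _ ?_
    rintro Z _ ⟨_, a, _, ⟨i⟩, rfl⟩
    rw [Sieve.pullback_comp]
    refine J.pullback_stable a ?_
    haveI : IsAffine (X.left.affineCover.X i) := inferInstance
    obtain ⟨G, hG, hr⟩ := IsVCover.exists_refine hE (X.left.affineCover.f i)
    refine J.superset_covering ((Sieve.generate_le_iff _ _).mpr (Presieve.ofArrows_le_iff.mpr fun j => ?_)) (hV G hG)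
    obtain ⟨l, h, hh⟩ := hr j
    exact ⟨_, h, E.f l, ⟨l⟩, hh⟩
  have h := hmem X.left (𝟙 _) X.hom X (𝟙 _)
  rw [Sieve.pullback_id] at h
  rw [Presieve.isSheafFor_iff_generate]
  have e : (Sieve.overEquiv X).symm (Sieve.generate (R.map (Over.forget S))) = Sieve.generate R := by
    rw [OrderIso.symm_apply_eq, Sieve.overEquiv_generate]
    refine le_antisymm ((Sieve.generate_le_iff _ _).mpr ?_) ((Sieve.generate_le_iff _ _).mpr ?_)
    · rintro _ _ ⟨hg⟩
      exact ⟨_, 𝟙 _, _, Presieve.image_mem_functorPushforward _ _ hg, Category.id_comp _⟩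
    · rintro W g ⟨Z, a, h', ha, rfl⟩
      exact ⟨_, h', _, ⟨ha⟩, rfl⟩
  exact Eq.mp (congrArg (fun R' : Sieve X => Presieve.IsSheafFor F R'.arrows)
    ((congrArg (Sieve.pullback (𝟙 X)) e).trans Sieve.pullback_id)) h

end Groth.Agent.HTopCov.VFromH
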