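import Groth.Agent.HTopCov.AlmostExists
import Groth.Agent.Graft.SubLim
import Mathlib.AlgebraicGeometry.AffineTransitionLimit

/-!
# Two almost blow up squares with the same centre are dominated by a third one
-/

set_option backward.isDefEq.respectTransparency false
set_option backward.isDefEq.respectTransparency.types false

universe u

namespace Groth.Agent.HTopCov.AlmostDominate

open CategoryTheory CategoryTheory.Limits AlgebraicGeometry Scheme HTop Opposite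
open Groth.Agent.MorLib.IdealFG Groth.Agent.Graft

variable {X X₁ X₂ B P : Scheme.{u}}

/-- In a fibre product over `X` of `X₁` and a finitely presented `X₂`, a closed subscheme of `X₁` with an
`X`-map to `X₂` is contained in a finitely presented closed subscheme which projects isomorphically to a
closed subscheme of `X₁`. -/
theorem exists_graph [CompactSpace X₁] [QuasiSeparatedSpace X₁] (b₁ : X₁ ⟶ X) (b₂ : X₂ ⟶ X) [IsSeparated b₂]
    [LocallyOfFinitePresentation b₂] (k₁ : B ⟶ X₁) [IsClosedImmersion k₁] (k₂ : B ⟶ X₂)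
    (hk : k₁ ≫ b₁ = k₂ ≫ b₂) {q₁ : P ⟶ X₁} {q₂ : P ⟶ X₂} (h : IsPullback q₁ q₂ b₁ b₂) (k : B ⟶ P)
    [IsClosedImmersion k] (e₁ : k ≫ q₁ = k₁) (e₂ : k ≫ q₂ = k₂) :
    ∃ K₀ : Sub k.ker, ∀ K : P.IdealSheafData, K₀.1 ≤ K → IsClosedImmersion (K.subschemeι ≫ q₁) := by
  haveI : IsSeparated q₁ := MorphismProperty.of_isPullback h.flip ‹IsSeparated b₂›
  haveI : LocallyOfFinitePresentation q₁ := MorphismProperty.of_isPullback h.flip ‹LocallyOfFinitePresentation b₂›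
  let t : subD b₁ k₁.ker ⟶ (Functor.const _).obj X :=
    { app := fun K => K.unop.1.subschemeι ≫ b₁
      naturality := fun K L f => by
        simp only [Functor.const_obj_obj, Functor.const_obj_map, Category.comp_id]
        exact IdealSheafData.inclusion_subschemeι_assoc (show L.unop.1 ≤ K.unop.1 from f.unop.le) b₁ }
  have hta : (subC b₁ k₁.ker).π ≫ t = (Functor.const _).map ((inv k₁.toImage ≫ k₂) ≫ b₂) := by
    ext K : 2
    show IdealSheafData.inclusion K.unop.2.1 ≫ K.unop.1.subschemeι ≫ b₁ = (inv k₁.toImage ≫ k₂) ≫ b₂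
    rw [IdealSheafData.inclusion_subschemeι_assoc, Category.assoc, IsIso.eq_inv_comp,
      Scheme.Hom.toImage_imageι_assoc, hk]
  obtain ⟨L, φ, hφ, hφt⟩ := Scheme.exists_π_app_comp_eq_of_locallyOfFinitePresentation
    (subD b₁ k₁.ker) t b₂ (subC b₁ k₁.ker) (isLimitSubC b₁ k₁.ker) (inv k₁.toImage ≫ k₂) hta
  let j : L.unop.1.subscheme ⟶ X₁ := L.unop.1.subschemeι
  haveI : LocallyOfFinitePresentation j := lfp_subschemeι L.unop.2.2
  let γ : L.unop.1.subscheme ⟶ P := h.lift j φ hφt.symm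
  have hγ₁ : γ ≫ q₁ = j := h.lift_fst _ _ _
  have hγ₂ : γ ≫ q₂ = φ := h.lift_snd _ _ _
  haveI : IsClosedImmersion γ := by
    haveI : IsClosedImmersion (γ ≫ q₁) := by rw [hγ₁]; infer_instance
    exact IsClosedImmersion.of_comp γ q₁
  haveI : LocallyOfFinitePresentation γ := by
    haveI : LocallyOfFinitePresentation (γ ≫ q₁) := by rw [hγ₁]; infer_instance
    exact AlgSpPts.locallyOfFinitePresentation_of_comp γ q₁
  let k' : B ⟶ L.unop.1.subscheme := k₁.toImage ≫ IdealSheafData.inclusion L.unop.2.1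
  have hφ' : IdealSheafData.inclusion L.unop.2.1 ≫ φ = inv k₁.toImage ≫ k₂ := hφ
  have hk' : k' ≫ γ = k := h.hom_ext
    (by rw [Category.assoc, hγ₁, e₁]
        show (k₁.toImage ≫ IdealSheafData.inclusion L.unop.2.1) ≫ L.unop.1.subschemeι = k₁
        rw [Category.assoc, IdealSheafData.inclusion_subschemeι, Scheme.Hom.toImage_imageι])
    (by rw [Category.assoc, hγ₂, e₂, Category.assoc, hφ', IsIso.hom_inv_id_assoc])
  refine ⟨⟨γ.ker, hk' ▸ Scheme.Hom.le_ker_comp k' γ, HTopPh.isFiniteTypeIdeal_ker γ⟩, fun K hK => ?_⟩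
  have e : K.subschemeι ≫ q₁ = IdealSheafData.inclusion hK ≫ inv γ.toImage ≫ j := by
    rw [← hγ₁, ← IdealSheafData.inclusion_subschemeι hK, Category.assoc]
    congr 1
    rw [IsIso.eq_inv_comp, Scheme.Hom.toImage_imageι_assoc]
  rw [e]
  haveI : IsClosedImmersion (IdealSheafData.inclusion hK) := by
    haveI : IsClosedImmersion (IdealSheafData.inclusion hK ≫ γ.ker.subschemeι) := by
      rw [IdealSheafData.inclusion_subschemeι]; infer_instance
    exact IsClosedImmersion.of_comp _ γ.ker.subschemeι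
  infer_instance

theorem dominate {Z E₁ E₂ : Scheme.{u}} [CompactSpace X] [QuasiSeparatedSpace X] (i : Z ⟶ X)
    [IsClosedImmersion i] [LocallyOfFinitePresentation i] {e₁ : E₁ ⟶ X₁} {π₁ : E₁ ⟶ Z} {b₁ : X₁ ⟶ X}
    (h₁ : IsAlmostBlowUpSquare e₁ π₁ b₁ i) {e₂ : E₂ ⟶ X₂} {π₂ : E₂ ⟶ Z} {b₂ : X₂ ⟶ X}
    (h₂ : IsAlmostBlowUpSquare e₂ π₂ b₂ i) :
    ∃ (E X' : Scheme.{u}) (e : E ⟶ X') (π : E ⟶ Z) (b : X' ⟶ X) (j₁ : X' ⟶ X₁) (j₂ : X' ⟶ X₂),
      IsAlmostBlowUpSquare e π b i ∧ IsClosedImmersion j₁ ∧ IsClosedImmersion j₂ ∧ j₁ ≫ b₁ = b ∧ j₂ ≫ b₂ = b := by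
  obtain ⟨B, b, hb⟩ := BlowUpLib.exists_blowUp (C := i.ker)
  obtain ⟨u₁, hu₁⟩ := BlowUpLib.exists_iso hb h₁.isBlowUp
  obtain ⟨u₂, hu₂⟩ := BlowUpLib.exists_iso hb h₂.isBlowUp
  haveI := h₁.isProper; haveI := h₁.finitePresentation
  haveI := h₂.isProper; haveI := h₂.finitePresentation
  haveI : CompactSpace X₁ := QuasiCompact.compactSpace_of_compactSpace b₁
  haveI : QuasiSeparatedSpace X₁ := quasiSeparatedSpace_of_quasiSeparated b₁
  haveI : CompactSpace X₂ := QuasiCompact.compactSpace_of_compactSpace b₂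
  haveI : QuasiSeparatedSpace X₂ := quasiSeparatedSpace_of_quasiSeparated b₂
  let k₁ : B ⟶ X₁ := u₁.hom ≫ (supportedOn (i.ker.comap b₁)).subschemeι
  let k₂ : B ⟶ X₂ := u₂.hom ≫ (supportedOn (i.ker.comap b₂)).subschemeι
  have hk₁ : k₁ ≫ b₁ = b := by rw [Category.assoc, hu₁]
  have hk₂ : k₂ ≫ b₂ = b := by rw [Category.assoc, hu₂]
  let k : B ⟶ pullback b₁ b₂ := pullback.lift k₁ k₂ (hk₁.trans hk₂.symm)
  have e₁' : k ≫ pullback.fst b₁ b₂ = k₁ := pullback.lift_fst _ _ _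
  have e₂' : k ≫ pullback.snd b₁ b₂ = k₂ := pullback.lift_snd _ _ _
  haveI : IsClosedImmersion k := by
    haveI : IsClosedImmersion (k ≫ pullback.fst b₁ b₂) := by rw [e₁']; infer_instance
    exact IsClosedImmersion.of_comp k (pullback.fst b₁ b₂)
  obtain ⟨K₁, hK₁⟩ := exists_graph b₁ b₂ k₁ k₂ (hk₁.trans hk₂.symm) (IsPullback.of_hasPullback b₁ b₂) k e₁' e₂'
  obtain ⟨K₂, hK₂⟩ := exists_graph b₂ b₁ k₂ k₁ (hk₂.trans hk₁.symm) (IsPullback.of_hasPullback b₁ b₂).flip k e₂' e₁'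
  obtain ⟨K, hK, hsq⟩ := AlmostExists.exists_square i b hb (pullback.fst b₁ b₂ ≫ b₁) k
    (by rw [← Category.assoc, e₁', hk₁]) ⟨K₁.1 ⊔ K₂.1, sup_le K₁.2.1 K₂.2.1, isFG_sup K₁.2.2 K₂.2.2⟩
  exact ⟨_, _, _, _, _, K.1.subschemeι ≫ pullback.fst b₁ b₂, K.1.subschemeι ≫ pullback.snd b₁ b₂, hsq,
    hK₁ _ (le_sup_left.trans hK), hK₂ _ (le_sup_right.trans hK), Category.assoc _ _ _,
    by rw [Category.assoc, pullback.condition]⟩

end Groth.Agent.HTopCov.AlmostDominate
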