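import Groth.Agent.HTopCov.AlmostBlowUp
import Groth.Agent.HTopPh.BlowUp
import Groth.Agent.BlowUpLib.Glue
import Groth.Agent.Graft.EvFinite
import Groth.Agent.AlgSpPts.Sep

/-!
# Existence of almost blow up squares
-/

set_option backward.isDefEq.respectTransparency false
set_option backward.isDefEq.respectTransparency.types false

universe u

namespace Groth.Agent.HTopCov.AlmostExists

open CategoryTheory CategoryTheory.Limits AlgebraicGeometry Scheme HTop
open Groth.Agent.MorLib.IdealFG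

variable {X P T : Scheme.{u}}

/-- The complement of a closed subscheme cut out by a finite type ideal is quasi-compact. -/
theorem isCompact_awayFrom [CompactSpace X] (I : X.IdealSheafData) (hI : BlowUp.IsFiniteTypeIdeal I) :
    IsCompact (awayFrom I : Set X) := by
  obtain ⟨s, hsf, hs⟩ := (isCompact_and_isOpen_iff_finite_and_eq_biUnion_affineOpens (U := (Set.univ : Set X))).mp
    ⟨isCompact_univ, isOpen_univ⟩
  have key : ∀ U : X.affineOpens, IsCompact ((awayFrom I : Set X) ∩ U.1) := by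
    intro U
    obtain ⟨t, ht⟩ := hI U
    have e : ((awayFrom I : Set X) ∩ U.1) = ⋃ g ∈ (t : Set Γ(X, U.1)), (X.basicOpen g : Set X) := by
      ext x
      have h := Set.ext_iff.mp (I.coe_support_inter U) x
      rw [← ht, X.zeroLocus_span] at h
      simp only [Set.mem_inter_iff, Scheme.mem_zeroLocus_iff, SetLike.mem_coe, Set.mem_iUnion, exists_prop] at h ⊢
      constructor
      · rintro ⟨hx, hxU⟩
        by_contra hne
        exact hx (h.mpr ⟨fun g hg hb => hne ⟨g, hg, hb⟩, hxU⟩).1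
      · rintro ⟨g, hg, hxg⟩
        exact ⟨fun hx => (h.mp ⟨hx, X.basicOpen_le g hxg⟩).1 g hg hxg, X.basicOpen_le g hxg⟩
    rw [e]
    exact t.finite_toSet.isCompact_biUnion fun g _ => (U.2.basicOpen g).isCompact
  have e : (awayFrom I : Set X) = ⋃ U ∈ s, ((awayFrom I : Set X) ∩ (U : X.affineOpens).1) := by
    simp only [← Set.inter_iUnion₂]
    rw [← hs, Set.inter_univ]
  rw [e]
  exact hsf.isCompact_biUnion fun U _ => key U

/-- Two maps to a separated scheme agreeing off an effective Cartier divisor are equal. -/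
theorem ext_of_awayFrom {W : Scheme.{u}} (c : W ⟶ X) [IsSeparated c] {J : T.IdealSheafData}
    (hJ : BlowUp.IsEffCartierIdeal J) {h₁ h₂ : T ⟶ W} (hc : h₁ ≫ c = h₂ ≫ c)
    (h : (awayFrom J).ι ≫ h₁ = (awayFrom J).ι ≫ h₂) : h₁ = h₂ := by
  let m : T ⟶ pullback c c := pullback.lift h₁ h₂ hc
  let q : pullback m (pullback.diagonal c) ⟶ T := pullback.fst _ _
  haveI : IsClosedImmersion q := inferInstance
  let l : ((awayFrom J : T.Opens) : Scheme.{u}) ⟶ pullback m (pullback.diagonal c) :=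
    pullback.lift (awayFrom J).ι ((awayFrom J).ι ≫ h₁) (by
      refine pullback.hom_ext ?_ ?_
      · simp [m]
      · simp [m, h])
  have hq : q.ker = ⊥ := by
    refine le_bot_iff.mp ((?_ : q.ker ≤ (l ≫ q).ker).trans ?_)
    · exact Scheme.Hom.le_ker_comp _ _
    · rw [pullback.lift_fst]
      exact (supportedOn_eq_bot hJ).le
  haveI : IsIso q := IsClosedImmersion.isIso_iff_ker_eq_bot.mpr hq
  have e : m = inv q ≫ pullback.snd _ _ ≫ pullback.diagonal c := by
    rw [IsIso.eq_inv_comp]; exact pullback.condition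
  have e₁ := congrArg (· ≫ pullback.fst c c) e
  have e₂ := congrArg (· ≫ pullback.snd c c) e
  simp only [Category.assoc, pullback.diagonal_fst, pullback.diagonal_snd] at e₁ e₂
  simp only [m, pullback.lift_fst, pullback.lift_snd] at e₁ e₂
  exact e₁.trans e₂.symm

/-- Finitely many sections of an ideal lie in one of its finitely generated parts. -/
theorem exists_sub_forall_mem [CompactSpace X] [QuasiSeparatedSpace X] (I : X.IdealSheafData) {ι : Type*} [Finite ι]
    (U : ι → X.affineOpens) (x : ∀ t, Γ(X, (U t).1)) (hx : ∀ t, x t ∈ I.ideal (U t)) (K₀ : Sub I) :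
    ∃ K : Sub I, K₀.1 ≤ K.1 ∧ ∀ t, x t ∈ K.1.ideal (U t) := by
  choose K hK using fun t => exists_sub_mem I (U t) (hx t)
  obtain ⟨L, hL⟩ := Finite.exists_le fun t : Option ι => t.elim K₀ K
  exact ⟨L, hL none, fun t => (show (K t).1 ≤ L.1 from hL (some t)) (U t) (hK t)⟩

variable {B : Scheme.{u}}

/-- Near every point, modulo the kernel of `k`, the pulled back ideal is principal as soon as it is on `B`. -/
theorem exists_principal_chart (k : B ⟶ P) [IsClosedImmersion k] (J : P.IdealSheafData)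
    (hJ : IsLocPrincipal (J.comap k)) (z : P) :
    ∃ W : P.affineOpens, z ∈ W.1 ∧ ∃ f : Γ(P, W.1),
      J.ideal W ⊔ k.ker.ideal W = Ideal.span {f} ⊔ k.ker.ideal W := by
  by_cases hz : z ∈ Set.range k
  · obtain ⟨x, rfl⟩ := hz
    obtain ⟨U, hxU, g, hg⟩ := hJ x
    obtain ⟨O, hO, hOU⟩ := k.isClosedEmbedding.isInducing.isOpen_iff.mp U.1.2
    obtain ⟨W, hW, hxW, hWO⟩ := exists_isAffineOpen_mem_and_subset (x := k x) (U := ⟨O, hO⟩)
      (show x ∈ k ⁻¹' O by rw [hOU]; exact hxU)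
    have hle : k ⁻¹ᵁ W ≤ U.1 := fun y hy => hOU.subset (show y ∈ k ⁻¹' O from hWO hy)
    let W' : B.affineOpens := ⟨k ⁻¹ᵁ W, hW.preimage k⟩
    have e : (J.comap k).ideal W' = Ideal.span {(B.presheaf.map (homOfLE hle).op).hom g} := by
      rw [← (J.comap k).map_ideal (U := W') (V := U) hle, hg, Ideal.map_span, Set.image_singleton]
      rfl
    have hs : Function.Surjective (k.app W).hom := k.app_surjective W hW
    obtain ⟨f, hf⟩ := hs ((B.presheaf.map (homOfLE hle).op).hom g)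
    refine ⟨⟨W, hW⟩, hxW, f, ?_⟩
    have e2 : (J.ideal ⟨W, hW⟩).map (k.app W).hom = (Ideal.span {f}).map (k.app W).hom := by
      rw [Ideal.map_span, Set.image_singleton, hf, ← e,
        ideal_comap_appLE k J ⟨W, hW⟩ W' le_rfl, Scheme.Hom.app_eq_appLE]
    have e3 := congrArg (Ideal.comap (k.app W).hom) e2
    rwa [Ideal.comap_map_of_surjective' _ hs, Ideal.comap_map_of_surjective' _ hs, ← Scheme.Hom.ker_apply k ⟨W, hW⟩] at e3
  · obtain ⟨W, hW, hzW, hWO⟩ := exists_isAffineOpen_mem_and_subset (x := z)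
      (U := ⟨(Set.range k)ᶜ, k.isClosedEmbedding.isClosed_range.isOpen_compl⟩) hz
    refine ⟨⟨W, hW⟩, hzW, 1, ?_⟩
    have : k.ker.ideal ⟨W, hW⟩ = ⊤ := by
      rw [Scheme.Hom.ker_apply]
      haveI : Subsingleton Γ(B, k ⁻¹ᵁ W) := by
        have : k ⁻¹ᵁ W = ⊥ := by
          ext y
          exact ⟨fun hy => hWO hy ⟨y, rfl⟩, fun h => h.elim⟩
        rw [this]
        infer_instance
      rw [eq_top_iff]
      intro a _
      exact Subsingleton.elim _ _
    rw [this, sup_top_eq, sup_top_eq]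

/-- A proper lfp hull of a blowing up contains almost blow up squares cut out by large finitely generated ideals. -/
theorem exists_square {Z : Scheme.{u}} [CompactSpace X] [QuasiSeparatedSpace X] (i : Z ⟶ X) [IsClosedImmersion i]
    [LocallyOfFinitePresentation i] (b : B ⟶ X) (hb : BlowUp.IsBlowUp b i.ker) (p : P ⟶ X) [IsProper p]
    [LocallyOfFinitePresentation p] (k : B ⟶ P) [IsClosedImmersion k] (hkp : k ≫ p = b) (K₀ : Sub k.ker) :
    ∃ K : Sub k.ker, K₀.1 ≤ K.1 ∧ IsAlmostBlowUpSquare (pullback.fst (K.1.subschemeι ≫ p) i)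
      (pullback.snd (K.1.subschemeι ≫ p) i) (K.1.subschemeι ≫ p) i := by
  classical
  haveI : CompactSpace P := QuasiCompact.compactSpace_of_compactSpace p
  haveI : QuasiSeparatedSpace P := quasiSeparatedSpace_of_quasiSeparated p
  have hIft : BlowUp.IsFiniteTypeIdeal i.ker := HTopPh.isFiniteTypeIdeal_ker i
  let Xo : X.Opens := awayFrom i.ker
  let V₀ : P.Opens := p ⁻¹ᵁ Xo
  have hV₀ : IsCompact (V₀ : Set P) := QuasiCompact.isCompact_preimage _ Xo.2 (isCompact_awayFrom _ hIft)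
  -- the kernel is finitely generated over the complement of the centre
  have hFG : ∀ U : P.affineOpens, U.1 ≤ V₀ → (k.ker.ideal U).FG := by
    intro U hU
    haveI : IsIso (b ∣_ Xo) := BlowUpLib.isIso_restrict hb Xo le_rfl
    haveI : LocallyOfFinitePresentation ((k ∣_ V₀) ≫ (p ∣_ Xo)) := by
      have e : (k ∣_ V₀) ≫ (p ∣_ Xo) = (k ≫ p) ∣_ Xo := (morphismRestrict_comp k p Xo).symm
      rw [e]
      subst hkp
      infer_instance
    haveI : LocallyOfFinitePresentation (k ∣_ V₀) := AlgSpPts.locallyOfFinitePresentation_of_comp _ (p ∣_ Xo)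
    haveI : IsClosedImmersion (k ∣_ V₀) :=
      IsZariskiLocalAtTarget.restrict (P := @IsClosedImmersion) ‹IsClosedImmersion k› V₀
    have hU' : V₀.ι ''ᵁ (V₀.ι ⁻¹ᵁ U.1) = U.1 := by
      rw [Scheme.Hom.image_preimage_eq_opensRange_inf, Scheme.Opens.opensRange_ι]
      exact inf_eq_right.mpr hU
    have hUa : IsAffineOpen (V₀.ι ⁻¹ᵁ U.1) := by
      rw [← Scheme.Hom.isAffineOpen_iff_of_isOpenImmersion V₀.ι, hU']; exact U.2
    have := HTopPh.isFiniteTypeIdeal_ker (k ∣_ V₀) ⟨_, hUa⟩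
    rw [ker_morphismRestrict_ideal] at this
    exact fg_congr (U := ⟨_, hUa.image_of_isOpenImmersion _⟩) (U' := U) hU' this
  obtain ⟨sV, hsVf, hsV⟩ := (isCompact_and_isOpen_iff_finite_and_eq_biUnion_affineOpens (U := (V₀ : Set P))).mp
    ⟨hV₀, V₀.2⟩
  have hsle : ∀ U ∈ sV, (U : P.affineOpens).1 ≤ V₀ := fun U hU z hz => by
    show z ∈ (V₀ : Set P)
    rw [hsV]; exact Set.mem_biUnion hU hz
  haveI := hsVf.to_subtype
  choose gens hgens using fun U : sV => hFG U.1 (hsle U.1 U.2)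
  -- local principality
  have hlp : IsLocPrincipal ((i.ker.comap p).comap k) := by
    rw [← IdealSheafData.comap_comp, hkp]
    exact isLocPrincipal_of_isEffCartier hb.1
  choose W hzW f hf using exists_principal_chart k (i.ker.comap p) hlp
  obtain ⟨sP, hsP⟩ := isCompact_univ.elim_finite_subcover (fun z => ((W z).1 : Set P)) (fun z => (W z).1.2)
    fun z _ => Set.mem_iUnion.2 ⟨z, hzW z⟩
  have hJft : IsFG (i.ker.comap p) := isFG_comap hIft p
  choose gJ hgJ using fun z : sP => hJft (W z.1)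
  have hdec₁ : ∀ (z : sP) (a : gJ z), ∃ c : Γ(P, (W z.1).1), (a : Γ(P, (W z.1).1)) - c * f z.1 ∈ k.ker.ideal (W z.1) := by
    intro z a
    have ha : (a : Γ(P, (W z.1).1)) ∈ (i.ker.comap p).ideal (W z.1) ⊔ k.ker.ideal (W z.1) :=
      Ideal.mem_sup_left (by rw [← hgJ z]; exact Ideal.subset_span a.2)
    rw [hf z.1, Submodule.mem_sup] at ha
    obtain ⟨u, hu, v, hv, huv⟩ := ha
    obtain ⟨c, rfl⟩ := Ideal.mem_span_singleton'.mp hu
    exact ⟨c, by rw [← huv]; simpa using hv⟩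
  choose c hc using hdec₁
  have hdec₂ : ∀ z : sP, ∃ g ∈ (i.ker.comap p).ideal (W z.1), f z.1 - g ∈ k.ker.ideal (W z.1) := by
    intro z
    have ha : f z.1 ∈ Ideal.span {f z.1} ⊔ k.ker.ideal (W z.1) := Ideal.mem_sup_left (Ideal.mem_span_singleton_self _)
    rw [← hf z.1, Submodule.mem_sup] at ha
    obtain ⟨u, hu, v, hv, huv⟩ := ha
    exact ⟨u, hu, by rw [← huv]; simpa using hv⟩
  choose g hg hgf using hdec₂
  let ι' := (Σ U : sV, gens U) ⊕ (Σ z : sP, gJ z) ⊕ sP
  let Uo : ι' → P.affineOpens := fun t => match t with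
    | .inl a => a.1.1
    | .inr (.inl a) => W a.1.1
    | .inr (.inr z) => W z.1
  let xo : ∀ t : ι', Γ(P, (Uo t).1) := fun t => match t with
    | .inl a => (a.2.1 : Γ(P, (a.1.1 : P.affineOpens).1))
    | .inr (.inl a) => (a.2.1 : Γ(P, (W a.1.1).1)) - c a.1 a.2 * f a.1.1
    | .inr (.inr z) => f z.1 - g z
  obtain ⟨K, hK₀, hK⟩ := exists_sub_forall_mem k.ker Uo xo (fun t => by
    rcases t with a | a | z
    · exact (hgens a.1).le (Ideal.subset_span a.2.2)
    · exact hc a.1 a.2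
    · exact hgf z) K₀
  refine ⟨K, hK₀, ?_⟩
  let b' : K.1.subscheme ⟶ X := K.1.subschemeι ≫ p
  haveI : LocallyOfFinitePresentation K.1.subschemeι := lfp_subschemeι K.2.2
  haveI : IsProper b' := inferInstance
  haveI : LocallyOfFinitePresentation b' := inferInstance
  -- over the complement of the centre `B` and the closed subscheme agree
  have hV : k.ker.comap V₀.ι ≤ K.1.comap V₀.ι := by
    have hU : ∀ U ∈ sV, k.ker.ideal U ≤ K.1.ideal U := fun U hU => by
      rw [← hgens ⟨U, hU⟩, Ideal.span_le]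
      exact fun a ha => hK (.inl ⟨⟨U, hU⟩, a, ha⟩)
    have hcov : ⨆ U : sV, V₀.ι ⁻¹ᵁ (U.1 : P.affineOpens).1 = ⊤ := by
      refine top_le_iff.mp fun y _ => ?_
      have : (y.1 : P) ∈ (V₀ : Set P) := y.2
      rw [hsV, Set.mem_iUnion₂] at this
      obtain ⟨U, hU', hy⟩ := this
      exact TopologicalSpace.Opens.mem_iSup.2 ⟨⟨U, hU'⟩, hy⟩
    have himg : ∀ U : sV, V₀.ι ''ᵁ (V₀.ι ⁻¹ᵁ (U.1 : P.affineOpens).1) = (U.1 : P.affineOpens).1 := fun U => by
      rw [Scheme.Hom.image_preimage_eq_opensRange_inf, Scheme.Opens.opensRange_ι]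
      exact inf_eq_right.mpr (hsle U.1 U.2)
    have haff : ∀ U : sV, IsAffineOpen (V₀.ι ⁻¹ᵁ (U.1 : P.affineOpens).1) := fun U => by
      rw [← Scheme.Hom.isAffineOpen_iff_of_isOpenImmersion V₀.ι, himg]; exact U.1.2
    refine IdealSheafData.le_of_iSup_eq_top (fun U : sV => (⟨_, haff U⟩ : V₀.toScheme.affineOpens)) hcov fun U => ?_
    rw [IdealSheafData.ideal_comap_of_isOpenImmersion, IdealSheafData.ideal_comap_of_isOpenImmersion]
    exact Ideal.comap_mono (le_congr (U := U.1) (U' := ⟨_, (haff U).image_of_isOpenImmersion _⟩) (himg U).symm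
      (hU U.1 U.2))
  have hfac : ∀ ⦃T : Scheme.{u}⦄ (t : T ⟶ K.1.subscheme), Set.range (t ≫ K.1.subschemeι) ⊆ V₀ →
      ∃ l : T ⟶ B, l ≫ k = t ≫ K.1.subschemeι := by
    intro T t ht
    obtain ⟨t₀, ht₀⟩ : ∃ t₀ : T ⟶ V₀, t₀ ≫ V₀.ι = t ≫ K.1.subschemeι :=
      ⟨IsOpenImmersion.lift V₀.ι _ (by rw [Scheme.Opens.range_ι]; exact ht), IsOpenImmersion.lift_fac _ _ _⟩
    refine ⟨IsClosedImmersion.lift k _ ?_, IsClosedImmersion.lift_fac _ _ _⟩
    rw [← ht₀, Scheme.Hom.ker_comp]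
    refine (IdealSheafData.map_gc V₀.ι _ _).mp (hV.trans ((IdealSheafData.map_gc V₀.ι _ _).mpr ?_))
    change K.1 ≤ t₀.ker.map V₀.ι
    rw [← Scheme.Hom.ker_comp, ht₀]
    exact K.1.ker_subschemeι.ge.trans (Scheme.Hom.le_ker_comp _ _)
  have hlp' : IsLocPrincipal (i.ker.comap b') := by
    intro y
    obtain ⟨z, hz, hyz⟩ := Set.mem_iUnion₂.1 (hsP (Set.mem_univ (K.1.subschemeι y)))
    let zz : sP := ⟨z, hz⟩
    let j := K.1.subschemeι
    let V : K.1.subscheme.affineOpens := ⟨j ⁻¹ᵁ (W z).1, (W z).2.preimage j⟩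
    refine ⟨V, hyz, (j.app (W z).1).hom (f z), ?_⟩
    show (i.ker.comap (j ≫ p)).ideal V = _
    rw [IdealSheafData.comap_comp, ideal_comap_appLE j (i.ker.comap p) (W z) V le_rfl, ← hgJ zz]
    rw [Ideal.map_span, show j.appLE (W z).1 (j ⁻¹ᵁ (W z).1) le_rfl = j.app (W z).1 from (j.app_eq_appLE).symm]
    have hker : ∀ a : Γ(P, (W z).1), a ∈ K.1.ideal (W z) → (j.app (W z).1).hom a = 0 := fun a ha => by
      rw [← RingHom.mem_ker, IdealSheafData.ker_subschemeι_app]; exact ha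
    refine le_antisymm (Ideal.span_le.2 ?_) ?_
    · rintro _ ⟨a, ha, rfl⟩
      have h0 := hker _ (hK (.inr (.inl ⟨zz, a, ha⟩)))
      rw [map_sub, map_mul, sub_eq_zero] at h0
      rw [SetLike.mem_coe, h0]
      exact Ideal.mul_mem_left _ _ (Ideal.mem_span_singleton_self _)
    · rw [Ideal.span_singleton_le_iff_mem, ← Ideal.map_span, hgJ zz]
      have h0 := hker _ (hK (.inr (.inr zz)))
      rw [map_sub, sub_eq_zero] at h0
      rw [h0]
      exact Ideal.mem_map_of_mem _ (hg zz)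
  refine ⟨inferInstance, inferInstance, IsPullback.of_hasPullback _ _, hlp', inferInstance, inferInstance, ?_⟩
  have hbB : BlowUp.IsBlowUp ((supportedOn (i.ker.comap b)).subschemeι ≫ b) i.ker := by
    rw [supportedOn_eq_bot hb.1]
    exact BlowUpLib.isBlowUp_iso_comp (⊥ : B.IdealSheafData).subschemeι hb
  have k'ex : ∃ k' : B ⟶ K.1.subscheme, k' ≫ K.1.subschemeι = k :=
    ⟨IsClosedImmersion.lift _ k (K.1.ker_subschemeι.le.trans K.2.1), IsClosedImmersion.lift_fac _ _ _⟩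
  obtain ⟨k', hk'⟩ := k'ex
  refine isBlowUp_of_comparison hbB hlp' (fun T g _ ⟨h, hh⟩ => ⟨h ≫ k', ?_⟩) fun T h₁ h₂ h12 hT => ?_
  · show (h ≫ k') ≫ K.1.subschemeι ≫ p = g
    rw [Category.assoc, reassoc_of% hk', hkp, hh]
  haveI : IsSeparated b' := inferInstance
  refine ext_of_awayFrom b' hT h12 ?_
  let A := awayFrom (i.ker.comap (h₁ ≫ b'))
  have hrange : ∀ h : T ⟶ K.1.subscheme, h ≫ b' = h₁ ≫ b' →
      Set.range ((A.ι ≫ h) ≫ K.1.subschemeι) ⊆ V₀ := by
    rintro h he _ ⟨y, rfl⟩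
    show p _ ∈ Xo
    have e1 : p (((A.ι ≫ h) ≫ K.1.subschemeι) y) = (h₁ ≫ b') y.1 := by
      rw [← Scheme.Hom.comp_apply, Category.assoc, Category.assoc,
        show h ≫ K.1.subschemeι ≫ p = h₁ ≫ b' from he, Scheme.Hom.comp_apply]
      rfl
    rw [e1]
    have hy : y.1 ∉ (i.ker.comap (h₁ ≫ b')).support := y.2
    rw [IdealSheafData.support_comap] at hy
    exact hy
  obtain ⟨l₁, hl₁⟩ := hfac (A.ι ≫ h₁) (hrange h₁ rfl)
  obtain ⟨l₂, hl₂⟩ := hfac (A.ι ≫ h₂) (hrange h₂ h12.symm)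
  have hA : BlowUp.IsEffCartierIdeal (i.ker.comap (A.ι ≫ h₁ ≫ b')) := by
    have : i.ker.comap (A.ι ≫ h₁ ≫ b') = ⊤ := by
      rw [IdealSheafData.comap_comp, ← IdealSheafData.support_eq_bot_iff]
      ext y
      simp only [IdealSheafData.support_comap, TopologicalSpace.Closeds.coe_bot, Set.mem_empty_iff_false, iff_false]
      exact fun hy => y.2 (by rw [IdealSheafData.support_comap]; exact hy)
    rw [this]
    exact isEffCartier_top _
  obtain ⟨m, -, hm⟩ := hb.2 _ (A.ι ≫ h₁ ≫ b') hA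
  have e1 : l₁ ≫ b = A.ι ≫ h₁ ≫ b' := by
    rw [← hkp, ← Category.assoc, hl₁, Category.assoc, Category.assoc]
  have e2 : l₂ ≫ b = A.ι ≫ h₁ ≫ b' := by
    rw [← hkp, ← Category.assoc, hl₂, Category.assoc, Category.assoc, h12]
  rw [← cancel_mono K.1.subschemeι, ← hl₁, ← hl₂, (hm _ e1).trans (hm _ e2).symm]

theorem exists_almostBlowUp {Z : Scheme.{u}} [CompactSpace X] [QuasiSeparatedSpace X] (i : Z ⟶ X)
    [IsClosedImmersion i] [LocallyOfFinitePresentation i] :
    ∃ (E X' : Scheme.{u}) (e : E ⟶ X') (π : E ⟶ Z) (b : X' ⟶ X), IsAlmostBlowUpSquare e π b i := by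
  obtain ⟨B, b, hb⟩ := BlowUpLib.exists_blowUp (C := i.ker)
  haveI : IsProper b := BlowUpLib.isProper_of_isBlowUp (hb := hb) (hC := HTopPh.isFiniteTypeIdeal_ker i)
  obtain ⟨P, p, k, hp, hlfp, hk, hkp⟩ := Graft.exists_proper_hull b
  haveI := hp; haveI := hlfp; haveI := hk
  obtain ⟨K, -, hK⟩ := exists_square i b hb p k hkp ⟨⊥, bot_le, isFG_bot⟩
  exact ⟨_, _, _, _, _, hK⟩

end Groth.Agent.HTopCov.AlmostExists
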