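import Groth.Prelude.Def_SGA1
import Mathlib.AlgebraicGeometry.PullbackCarrier
import Mathlib.AlgebraicGeometry.Morphisms.UniversallyOpen

/-!
Universally open surjective morphisms are universally submersive.
-/

universe u

open CategoryTheory CategoryTheory.Limits AlgebraicGeometry

namespace Groth.Agent.HTopCov

variable {X Y Z : Scheme.{u}}

theorem univSubmersive_of_universallyOpen (f : X ⟶ Y) [UniversallyOpen f] [Surjective f] :
    SGA1.UnivSubmersive f := by
  intro X' Y' i₁ i₂ f' h
  haveI : UniversallyOpen f' := MorphismProperty.of_isPullback h.flip inferInstance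
  haveI : Surjective f' := MorphismProperty.of_isPullback h.flip inferInstance
  exact f'.isOpenMap.isQuotientMap f'.continuous f'.surjective

theorem univSubmersive_of_comp {f : X ⟶ Y} {g : Y ⟶ Z} (h : SGA1.UnivSubmersive (f ≫ g)) :
    SGA1.UnivSubmersive g := by
  intro Y' Z' i₁ i₂ g' hg'
  have hsq : IsPullback (pullback.fst f i₁) (pullback.snd f i₁ ≫ g') (f ≫ g) i₂ :=
    (IsPullback.of_hasPullback f i₁).paste_vert hg'.flip
  have hq : Topology.IsQuotientMap (pullback.snd f i₁ ≫ g').base := h _ _ _ hsq.flip
  exact Topology.IsQuotientMap.of_comp (pullback.snd f i₁).continuous g'.continuous hq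

end Groth.Agent.HTopCov
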