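import Groth.Agent.HTopCov.Square
import Groth.Agent.HTopCov.Sheaf
import Groth.Agent.SubtrRef.HTop

/-!
The h sheaf condition over a base: reduction to Zariski coverings and proper surjective morphisms.
-/

set_option backward.isDefEq.respectTransparency false
set_option backward.isDefEq.respectTransparency.types false

universe w u

namespace Groth.Agent.HTopCov.OverCrit

open CategoryTheory CategoryTheory.Limits AlgebraicGeometry HTop Opposite

variable {S : Scheme.{u}} {F : (Over S)ᵒᵖ ⥤ Type w}

/-- A covering sieve of `T` by affine opens, over `S`. -/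
noncomputable def affineSieve (T : Over S) : Sieve T :=
  (Sieve.overEquiv T).symm (Sieve.ofArrows (fun i => T.left.affineCover.X i) T.left.affineCover.f)

theorem affineSieve_mem (T : Over S) : affineSieve T ∈ (Scheme.zariskiTopology.over S) T := by
  rw [affineSieve, GrothendieckTopology.mem_over_iff, OrderIso.apply_symm_apply]
  exact T.left.affineCover.mem_grothendieckTopology

theorem exists_fac_of_affineSieve {T Z : Over S} {g : Z ⟶ T} (hg : affineSieve T g) :
    ∃ (W : Over S) (a : Z ⟶ W) (c : W ⟶ T), IsAffine W.left ∧ a ≫ c = g := by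
  obtain ⟨_, a, _, ⟨i⟩, ha⟩ := (Sieve.overEquiv_symm_iff _ g).mp hg
  haveI : IsAffine (T.left.affineCover.X i) := inferInstance
  exact ⟨Over.mk (T.left.affineCover.f i ≫ T.hom),
    Over.homMk a (by show a ≫ T.left.affineCover.f i ≫ T.hom = Z.hom; rw [reassoc_of% ha]; exact Over.w g),
    Over.homMk (T.left.affineCover.f i) rfl, inferInstanceAs (IsAffine (T.left.affineCover.X i)),
    Over.OverMorphism.ext ha⟩

section Singleton

variable (hz : Presieve.IsSheaf (Scheme.zariskiTopology.over S) F)
  (hs : ∀ (U V : Over S) (f : V ⟶ U), IsAffine U.left → IsProper f.left → Surjective f.left →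
    LocallyOfFinitePresentation f.left → Presieve.IsSheafFor F (Presieve.singleton f))
  {U V : Over S} (f : V ⟶ U) (s : F.obj (op V))
  (hcomp : ∀ {Z : Over S} (p₁ p₂ : Z ⟶ V), p₁ ≫ f = p₂ ≫ f → F.map p₁.op s = F.map p₂.op s)

/-- `x` restricts to `s` along `f`. -/
def Good {T : Over S} (g : T ⟶ U) (x : F.obj (op T)) : Prop :=
  ∀ (Z : Over S) (a : Z ⟶ T) (b : Z ⟶ V), a ≫ g = b ≫ f → F.map a.op x = F.map b.op s

omit hz hs hcomp in
theorem good_comp {T T' : Over S} {g : T ⟶ U} {x : F.obj (op T)} (h : Good f s g x) (k : T' ⟶ T) :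
    Good f s (k ≫ g) (F.map k.op x) := fun Z a b hab => by
  rw [← Functor.map_comp_apply, ← op_comp]
  exact h Z (a ≫ k) b (by rw [Category.assoc, hab])

variable (hp : IsProper f.left) (hsu : Surjective f.left) (hf : LocallyOfFinitePresentation f.left)

include hs hcomp hp hsu hf in
theorem existsUnique_good_affine {T : Over S} [IsAffine T.left] (g : T ⟶ U) :
    ∃! x : F.obj (op T), Good f s g x := by
  have sq : IsPullback (pullback.fst g f).left (pullback.snd g f).left g.left f.left :=
    (IsPullback.of_hasPullback g f).map (Over.forget S)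
  have h := hs T (pullback g f) (pullback.fst g f) inferInstance
    (MorphismProperty.of_isPullback (P := @IsProper) sq.flip hp)
    (MorphismProperty.of_isPullback (P := @Surjective) sq.flip hsu)
    (MorphismProperty.of_isPullback (P := @LocallyOfFinitePresentation) sq.flip hf)
  obtain ⟨x, hx, hux⟩ := Presieve.isSheafFor_singleton.mp h (F.map (pullback.snd g f).op s) fun p₁ p₂ he => by
    rw [← Functor.map_comp_apply, ← Functor.map_comp_apply, ← op_comp, ← op_comp]
    refine hcomp _ _ ?_
    rw [Category.assoc, Category.assoc, ← pullback.condition, ← Category.assoc, he, Category.assoc]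
  refine ⟨x, fun Z a b hab => ?_, fun y hy => hux y (hy _ _ _ pullback.condition)⟩
  conv_lhs => rw [← pullback.lift_fst a b hab, op_comp, Functor.map_comp_apply, hx, ← Functor.map_comp_apply,
    ← op_comp, pullback.lift_snd]

include hz hs hcomp hp hsu hf in
theorem good_unique {T : Over S} (g : T ⟶ U) {x y : F.obj (op T)} (hx : Good f s g x) (hy : Good f s g y) : x = y := by
  refine (hz _ (affineSieve_mem T)).isSeparatedFor.ext fun Z k hk => ?_
  obtain ⟨W, a, c, hW, rfl⟩ := exists_fac_of_affineSieve hk
  haveI := hW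
  rw [op_comp, Functor.map_comp_apply, Functor.map_comp_apply,
    (existsUnique_good_affine hs f s hcomp hp hsu hf (c ≫ g)).unique (good_comp f s hx c) (good_comp f s hy c)]

include hz hs hcomp hp hsu hf in
theorem exists_good {T : Over S} (g : T ⟶ U) : ∃ x : F.obj (op T), Good f s g x := by
  have hex : ∀ {Z : Over S} (k : Z ⟶ T), affineSieve T k → ∃ x, Good f s (k ≫ g) x := fun {Z} k hk => by
    obtain ⟨W, a, c, hW, rfl⟩ := exists_fac_of_affineSieve hk
    haveI := hW
    obtain ⟨x, hx, -⟩ := existsUnique_good_affine hs f s hcomp hp hsu hf (c ≫ g)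
    exact ⟨F.map a.op x, by rw [Category.assoc]; exact good_comp f s hx a⟩
  let fam : Presieve.FamilyOfElements F (affineSieve T).arrows := fun Z k hk => (hex k hk).choose
  have hfam : fam.SieveCompatible := fun Y Z k l hk =>
    good_unique hz hs f s hcomp hp hsu hf ((l ≫ k) ≫ g) (hex (l ≫ k) ((affineSieve T).downward_closed hk l)).choose_spec
      (by rw [Category.assoc]; exact good_comp f s (hex k hk).choose_spec l)
  have hc : fam.Compatible := (Presieve.compatible_iff_sieveCompatible fam).mpr hfam
  obtain ⟨x, hx, -⟩ := hz _ (affineSieve_mem T) fam hc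
  refine ⟨x, fun Z a b hab => ?_⟩
  refine (hz _ ((Scheme.zariskiTopology.over S).pullback_stable a (affineSieve_mem T))).isSeparatedFor.ext
    fun W k hk => ?_
  rw [← Functor.map_comp_apply, ← Functor.map_comp_apply, ← op_comp, ← op_comp, hx (k ≫ a) hk]
  have := (hex (k ≫ a) hk).choose_spec W (𝟙 _) (k ≫ b) (by rw [Category.id_comp, Category.assoc, hab, Category.assoc])
  simpa using this

end Singleton

/-- The sheaf condition for proper surjective morphisms of finite presentation follows from the case of an affine
target. -/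
theorem isSheafFor_proper (hz : Presieve.IsSheaf (Scheme.zariskiTopology.over S) F)
    (hs : ∀ (U V : Over S) (f : V ⟶ U), IsAffine U.left → IsProper f.left → Surjective f.left →
      LocallyOfFinitePresentation f.left → Presieve.IsSheafFor F (Presieve.singleton f))
    {U V : Over S} (f : V ⟶ U) (hp : IsProper f.left) (hsu : Surjective f.left)
    (hf : LocallyOfFinitePresentation f.left) : Presieve.IsSheafFor F (Presieve.singleton f) := by
  rw [Presieve.isSheafFor_singleton]
  intro s hcomp
  obtain ⟨x, hx⟩ := exists_good hz hs f s hcomp hp hsu hf (𝟙 U)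
  refine ⟨x, by simpa using hx V f (𝟙 V) (by simp), fun y hy => ?_⟩
  refine good_unique hz hs f s hcomp hp hsu hf (𝟙 U) (fun Z a b hab => ?_) hx
  rw [Category.comp_id] at hab
  rw [hab, op_comp, Functor.map_comp_apply, hy]

/-- The topology on schemes whose covering sieves are covering for `J` over every structure morphism. -/
def descTop (J : GrothendieckTopology (Over S)) : GrothendieckTopology Scheme.{u} where
  sieves T := {R | ∀ (T' : Scheme.{u}) (g : T' ⟶ T) (p : T' ⟶ S),
    (Sieve.overEquiv (Over.mk p)).symm (R.pullback g) ∈ J (Over.mk p)}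
  top_mem' T T' g p := J.covering_of_eq_top (by ext Z k; simp [Sieve.overEquiv_symm_iff])
  pullback_stable' T T' R g hR T'' g' p := by
    rw [← Sieve.pullback_comp]
    exact hR T'' (g' ≫ g) p
  transitive' T R hR R' hR' T' g p := by
    refine J.transitive (hR T' g p) _ fun Z k hk => ?_
    have h := hR' ((Sieve.overEquiv_symm_iff _ k).mp hk) Z.left (𝟙 _) Z.hom
    rw [Sieve.pullback_id] at h
    rw [← Sieve.overEquiv_symm_pullback, ← Sieve.pullback_comp]
    exact h

/-- Zariski sheaves with the sheaf property for proper surjections of finite presentation over affine schemes are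
sheaves for the big h site. -/
theorem isSheaf_Jh (hz : Presieve.IsSheaf (Scheme.zariskiTopology.over S) F)
    (hs : ∀ (U V : Over S) (f : V ⟶ U), IsAffine U.left → IsProper f.left → Surjective f.left →
      LocallyOfFinitePresentation f.left → Presieve.IsSheafFor F (Presieve.singleton f)) :
    Presieve.IsSheaf (Jh S) F := by
  let J := Sheaf.finestTopologySingle F
  have hzJ : Scheme.zariskiTopology ≤ descTop J := fun T R hR T' g p Y k =>
    hz _ ((Scheme.zariskiTopology.over S).pullback_stable k (by
      rw [GrothendieckTopology.mem_over_iff, OrderIso.apply_symm_apply]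
      exact Scheme.zariskiTopology.pullback_stable g hR))
  have hprop : ∀ {P T : Scheme.{u}} (f : P ⟶ T), IsProper f → Surjective f → LocallyOfFinitePresentation f →
      Sieve.generate (Presieve.singleton f) ∈ descTop J T := by
    intro P T f hp hsu hf T' g p Y k
    let c := k.left ≫ g
    let V : Over S := Over.mk (pullback.fst c f ≫ Y.hom)
    let π : V ⟶ Y := Over.homMk (pullback.fst c f) rfl
    have h := isSheafFor_proper hz hs π (MorphismProperty.pullback_fst (P := @IsProper) c f hp)
      (MorphismProperty.pullback_fst (P := @Surjective) c f hsu)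
      (MorphismProperty.pullback_fst (P := @LocallyOfFinitePresentation) c f hf)
    rw [Presieve.isSheafFor_iff_generate] at h
    convert h using 2
    ext Z l
    constructor
    · rintro ⟨_, a, _, ⟨⟩, ha⟩
      refine ⟨V, Over.homMk (pullback.lift l.left a (by
        rw [show l.left ≫ c = (l ≫ k).left ≫ g by simp [c]]
        exact ha.symm)) (by
          show pullback.lift _ _ _ ≫ pullback.fst c f ≫ _ = Z.hom
          rw [pullback.lift_fst_assoc]; exact Over.w l), π, ⟨⟩, Over.OverMorphism.ext (pullback.lift_fst _ _ _)⟩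
    · rintro ⟨_, a, _, ⟨⟩, rfl⟩
      refine ⟨P, a.left ≫ pullback.snd c f, f, ⟨⟩, ?_⟩
      show (a.left ≫ pullback.snd c f) ≫ f = ((a ≫ π) ≫ k).left ≫ g
      simp [π, c, ← pullback.condition]
  have hle : hTopology ≤ descTop J := by
    rw [hTopology, Precoverage.toGrothendieck_le_iff_le_toPrecoverage]
    intro X R hR
    rw [GrothendieckTopology.mem_toPrecoverage_iff]
    obtain ⟨E, hE, rfl⟩ := PreZeroHypercoverFamily.mem_precoverage_iff.mp hR
    refine (descTop J).transitive (hzJ _ X.affineCover.mem_grothendieckTopology) _ ?_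
    rintro Z _ ⟨_, a, _, ⟨i⟩, rfl⟩
    rw [Sieve.pullback_comp]
    refine (descTop J).pullback_stable a ?_
    haveI : IsAffine (X.affineCover.X i) := inferInstance
    have hE' : IsHCover (E.pullback₁ (X.affineCover.f i)) :=
      ⟨fun l => MorphismProperty.pullback_fst (P := @LocallyOfFinitePresentation) _ _ (hE.1 l),
        isVCover_pullback₁ _ E hE.2⟩
    obtain ⟨P₀, g, n, W, hgp, hgs, hgf, -, hW, hfac⟩ := SubtrRef.exists_proper_refinement _ hE'.1 hE'.2
    rw [← show (E.pullback₁ (X.affineCover.f i)).sieve₀ = (Sieve.generate E.presieve₀).pullback (X.affineCover.f i)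
      from sieve₀_pullback₁ E _]
    refine (descTop J).transitive (hprop g hgp hgs hgf) _ ?_
    rintro Z' _ ⟨_, b, _, ⟨⟩, rfl⟩
    rw [Sieve.pullback_comp]
    refine (descTop J).pullback_stable b ?_
    let C := P₀.openCoverOfIsOpenCover W hW
    refine (descTop J).superset_covering ((Sieve.generate_le_iff _ _).mpr <| Presieve.ofArrows_le_iff.mpr fun j => ?_)
      (hzJ _ C.mem_grothendieckTopology)
    obtain ⟨l, h, hh⟩ := hfac j
    exact ⟨_, h, (E.pullback₁ (X.affineCover.f i)).f l, ⟨l⟩, hh⟩
  intro X R hR
  rw [GrothendieckTopology.mem_over_iff] at hR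
  have h := hle _ hR X.left (𝟙 _) X.hom X (𝟙 _)
  rw [Sieve.pullback_id] at h
  exact Eq.mp (congrArg (fun R' : Sieve X => Presieve.IsSheafFor F R'.arrows)
    ((Sieve.overEquiv X).symm_apply_apply R)) h

end Groth.Agent.HTopCov.OverCrit

namespace Groth.Agent.HTopCov.OverCrit

open CategoryTheory CategoryTheory.Limits AlgebraicGeometry HTop Opposite

variable {S : Scheme.{u}}

theorem zariski_le_h : Scheme.zariskiTopology.{u} ≤ hTopology := by
  intro X R hR
  refine Precoverage.toGrothendieck_mono (Precoverage.le_of_zeroHypercover fun Y E => ?_) X hR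
  haveI : ∀ i, IsOpenImmersion (E.f i) := fun i => Scheme.Cover.map_prop E i
  haveI : QuasiCompactCover E.toPreZeroHypercover :=
    QuasiCompactCover.of_isOpenMap fun i => (E.f i).isOpenEmbedding.isOpenMap
  exact (presieve₀_mem_hPrecoverage_iff _).mpr ⟨fun i => inferInstance, isVCover_of_qc _ fun i => inferInstance⟩

theorem isSheaf_Jh_iff (F : (Over S)ᵒᵖ ⥤ Type w) :
    Presieve.IsSheaf (Jh S) F ↔ (Presieve.IsSheaf (Scheme.zariskiTopology.over S) F ∧
      ∀ (U V : Over S) (f : V ⟶ U), IsAffine U.left → IsProper f.left → Surjective f.left →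
        LocallyOfFinitePresentation f.left → Presieve.IsSheafFor F (Presieve.singleton f)) := by
  refine ⟨fun h => ⟨fun X R hR => h R ?_, fun U V f _ hp hs hf => ?_⟩, fun ⟨hz, hs⟩ => isSheaf_Jh hz hs⟩
  · rw [GrothendieckTopology.mem_over_iff] at hR ⊢
    exact zariski_le_h _ hR
  · rw [Presieve.isSheafFor_iff_generate]
    refine h _ ?_
    rw [GrothendieckTopology.mem_over_iff]
    have hcov : IsHCover (PreZeroHypercover.singleton.{0} f.left) := ⟨fun _ => hf, isVCover_of_proper f.left⟩
    refine hTopology.superset_covering ?_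
      (Precoverage.generate_mem_toGrothendieck ((presieve₀_mem_hPrecoverage_iff _).mpr hcov))
    rw [PreZeroHypercover.presieve₀_singleton, Sieve.generate_le_iff]
    rintro _ _ ⟨⟩
    exact ⟨V, f, 𝟙 _, ⟨V, 𝟙 _, f, ⟨⟩, Category.id_comp _⟩, (Category.id_comp _).symm⟩

end Groth.Agent.HTopCov.OverCrit
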