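import Groth.Agent.HTopCov.OverCriterion

/-!
Gluing along affine opens of the target for sheaf conditions on a base change stable class of morphisms.
-/

set_option backward.isDefEq.respectTransparency false
set_option backward.isDefEq.respectTransparency.types false

universe w u

namespace Groth.Agent.HTopCov.OverCritP

open CategoryTheory CategoryTheory.Limits AlgebraicGeometry HTop Opposite OverCrit

variable {S : Scheme.{u}} {F : (Over S)ᵒᵖ ⥤ Type w} {P : MorphismProperty Scheme.{u}} [P.IsStableUnderBaseChange]

section Singleton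

variable (hz : Presieve.IsSheaf (Scheme.zariskiTopology.over S) F)
  (hs : ∀ (U V : Over S) (f : V ⟶ U), IsAffine U.left → P f.left → Presieve.IsSheafFor F (Presieve.singleton f))
  {U V : Over S} (f : V ⟶ U) (s : F.obj (op V))
  (hcomp : ∀ {Z : Over S} (p₁ p₂ : Z ⟶ V), p₁ ≫ f = p₂ ≫ f → F.map p₁.op s = F.map p₂.op s)

/-- `x` restricts to `s` along `f`. -/
def Good {T : Over S} (g : T ⟶ U) (x : F.obj (op T)) : Prop :=
  ∀ (Z : Over S) (a : Z ⟶ T) (b : Z ⟶ V), a ≫ g = b ≫ f → F.map a.op x = F.map b.op s

omit hz hs hcomp in
theorem good_comp {T T' : Over S} {g : T ⟶ U} {x : F.obj (op T)} (h : Good f s g x) (k : T' ⟶ T) :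
    Good f s (k ≫ g) (F.map k.op x) := fun Z a b hab => by
  rw [← Functor.map_comp_apply, ← op_comp]
  exact h Z (a ≫ k) b (by rw [Category.assoc, hab])

variable (hp : P f.left)

include hs hcomp hp in
theorem existsUnique_good_affine {T : Over S} [IsAffine T.left] (g : T ⟶ U) :
    ∃! x : F.obj (op T), Good f s g x := by
  have sq : IsPullback (pullback.fst g f).left (pullback.snd g f).left g.left f.left :=
    (IsPullback.of_hasPullback g f).map (Over.forget S)
  have h := hs T (pullback g f) (pullback.fst g f) inferInstance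
    (MorphismProperty.of_isPullback (P := P) sq.flip hp)
  obtain ⟨x, hx, hux⟩ := Presieve.isSheafFor_singleton.mp h (F.map (pullback.snd g f).op s) fun p₁ p₂ he => by
    rw [← Functor.map_comp_apply, ← Functor.map_comp_apply, ← op_comp, ← op_comp]
    refine hcomp _ _ ?_
    rw [Category.assoc, Category.assoc, ← pullback.condition, ← Category.assoc, he, Category.assoc]
  refine ⟨x, fun Z a b hab => ?_, fun y hy => hux y (hy _ _ _ pullback.condition)⟩
  conv_lhs => rw [← pullback.lift_fst a b hab, op_comp, Functor.map_comp_apply, hx, ← Functor.map_comp_apply,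
    ← op_comp, pullback.lift_snd]

include hz hs hcomp hp in
theorem good_unique {T : Over S} (g : T ⟶ U) {x y : F.obj (op T)} (hx : Good f s g x) (hy : Good f s g y) : x = y := by
  refine (hz _ (affineSieve_mem T)).isSeparatedFor.ext fun Z k hk => ?_
  obtain ⟨W, a, c, hW, rfl⟩ := exists_fac_of_affineSieve hk
  haveI := hW
  rw [op_comp, Functor.map_comp_apply, Functor.map_comp_apply,
    (existsUnique_good_affine hs f s hcomp hp (c ≫ g)).unique (good_comp f s hx c) (good_comp f s hy c)]

include hz hs hcomp hp in
theorem exists_good {T : Over S} (g : T ⟶ U) : ∃ x : F.obj (op T), Good f s g x := by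
  have hex : ∀ {Z : Over S} (k : Z ⟶ T), affineSieve T k → ∃ x, Good f s (k ≫ g) x := fun {Z} k hk => by
    obtain ⟨W, a, c, hW, rfl⟩ := exists_fac_of_affineSieve hk
    haveI := hW
    obtain ⟨x, hx, -⟩ := existsUnique_good_affine hs f s hcomp hp (c ≫ g)
    exact ⟨F.map a.op x, by rw [Category.assoc]; exact good_comp f s hx a⟩
  let fam : Presieve.FamilyOfElements F (affineSieve T).arrows := fun Z k hk => (hex k hk).choose
  have hfam : fam.SieveCompatible := fun Y Z k l hk =>
    good_unique hz hs f s hcomp hp ((l ≫ k) ≫ g) (hex (l ≫ k) ((affineSieve T).downward_closed hk l)).choose_spec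
      (by rw [Category.assoc]; exact good_comp f s (hex k hk).choose_spec l)
  have hc : fam.Compatible := (Presieve.compatible_iff_sieveCompatible fam).mpr hfam
  obtain ⟨x, hx, -⟩ := hz _ (affineSieve_mem T) fam hc
  refine ⟨x, fun Z a b hab => ?_⟩
  refine (hz _ ((Scheme.zariskiTopology.over S).pullback_stable a (affineSieve_mem T))).isSeparatedFor.ext
    fun W k hk => ?_
  rw [← Functor.map_comp_apply, ← Functor.map_comp_apply, ← op_comp, ← op_comp, hx (k ≫ a) hk]
  have := (hex (k ≫ a) hk).choose_spec W (𝟙 _) (k ≫ b) (by rw [Category.id_comp, Category.assoc, hab, Category.assoc])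
  simpa using this

end Singleton

/-- The sheaf condition for a base change stable class of morphisms follows from the case of an affine target. -/
theorem isSheafFor_of_affine (hz : Presieve.IsSheaf (Scheme.zariskiTopology.over S) F)
    (hs : ∀ (U V : Over S) (f : V ⟶ U), IsAffine U.left → P f.left → Presieve.IsSheafFor F (Presieve.singleton f))
    {U V : Over S} (f : V ⟶ U) (hp : P f.left) : Presieve.IsSheafFor F (Presieve.singleton f) := by
  rw [Presieve.isSheafFor_singleton]
  intro s hcomp
  obtain ⟨x, hx⟩ := exists_good hz hs f s hcomp hp (𝟙 U)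
  refine ⟨x, by simpa using hx V f (𝟙 V) (by simp), fun y hy => ?_⟩
  refine good_unique hz hs f s hcomp hp (𝟙 U) (fun Z a b hab => ?_) hx
  rw [Category.comp_id] at hab
  rw [hab, op_comp, Functor.map_comp_apply, hy]

end Groth.Agent.HTopCov.OverCritP
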