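import Groth.Agent.HTopCov.DVR
import Groth.Agent.LocImmLib.ZMT
import Groth.Agent.SubtrRef.HTop
import Groth.Agent.S14770
import Groth.Agent.SGA1Q.SigmaFinite
import Mathlib.AlgebraicGeometry.AlgClosed.Basic
import Mathlib.AlgebraicGeometry.Morphisms.QuasiFinite
import Mathlib.AlgebraicGeometry.Noetherian
import Mathlib.FieldTheory.IsAlgClosed.AlgebraicClosure

/-!
qfh coverings are refined by a finite surjective morphism followed by a Zariski covering.
-/

set_option backward.isDefEq.respectTransparency false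
set_option backward.isDefEq.respectTransparency.types false

universe u

namespace Groth.Agent.HTopCov.QfhRefine

open CategoryTheory CategoryTheory.Limits AlgebraicGeometry IsLocalRing

variable {Y : Scheme.{u}}

/-- The geometric points over `a` of a quasi-finite scheme form a finite set. -/
theorem finite_points {X : Scheme.{u}} (f : X ⟶ Y) [LocallyQuasiFinite f] [QuasiCompact f]
    [LocallyOfFiniteType f] {Ω : Type u} [Field Ω] [IsAlgClosed Ω] (a : Spec (CommRingCat.of Ω) ⟶ Y) :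
    Finite {s : Spec (CommRingCat.of Ω) ⟶ X // s ≫ f = a} := by
  let P := pullback f a
  haveI : Finite P := by
    refine Set.finite_univ_iff.1 (((pullback.snd f a).finite_preimage_singleton (closedPoint Ω)).subset
      fun p _ => ?_)
    exact Subsingleton.elim (α := PrimeSpectrum Ω) _ _
  refine Finite.of_injective (fun s => (pullback.lift (s.1) (𝟙 _) (by rw [Category.id_comp, s.2]) :
    Spec (CommRingCat.of Ω) ⟶ P) (closedPoint Ω)) fun s t hst => Subtype.ext ?_
  have h := ext_of_apply_closedPoint_eq (pullback.snd f a) (pullback.lift_snd _ _ _)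
    (pullback.lift_snd _ _ _) hst
  have := congrArg (· ≫ pullback.fst f a) h
  simpa only [pullback.lift_fst] using this

/-- A point with values in a larger field over an algebraically closed one comes from the smaller one. -/
theorem exists_descend {X : Scheme.{u}} (f : X ⟶ Y) [LocallyQuasiFinite f] [QuasiCompact f]
    [LocallyOfFiniteType f] {Ω Ω' : Type u} [Field Ω] [IsAlgClosed Ω] [Field Ω'] (ι : Ω →+* Ω')
    (a : Spec (CommRingCat.of Ω) ⟶ Y) (g : Spec (CommRingCat.of Ω') ⟶ X)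
    (hg : g ≫ f = Spec.map (CommRingCat.ofHom ι) ≫ a) :
    ∃ s : Spec (CommRingCat.of Ω) ⟶ X, s ≫ f = a ∧ Spec.map (CommRingCat.ofHom ι) ≫ s = g := by
  let P := pullback f a
  let g' : Spec (CommRingCat.of Ω') ⟶ P := pullback.lift g (Spec.map (CommRingCat.ofHom ι)) hg
  let p := g' (closedPoint Ω')
  haveI : Finite P := by
    refine Set.finite_univ_iff.1 (((pullback.snd f a).finite_preimage_singleton (closedPoint Ω)).subset
      fun p _ => ?_)
    exact Subsingleton.elim (α := PrimeSpectrum Ω) _ _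
  have hc : IsClosed ({p} : Set P) := by
    haveI : JacobsonSpace P := LocallyOfFiniteType.jacobsonSpace (pullback.snd f a)
    haveI : DiscreteTopology P := inferInstance
    exact isClosed_discrete _
  let s := pointOfClosedPoint (pullback.snd f a) p hc
  have hs : s ≫ pullback.snd f a = 𝟙 _ := pointOfClosedPoint_comp _ _ _
  refine ⟨s ≫ pullback.fst f a, ?_, ?_⟩
  · rw [Category.assoc, pullback.condition, ← Category.assoc, hs, Category.id_comp]
  suffices Spec.map (CommRingCat.ofHom ι) ≫ s = g' by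
    rw [← Category.assoc, this, pullback.lift_fst]
  have hg' : g' ≫ pullback.snd f a = Spec.map (CommRingCat.ofHom ι) := pullback.lift_snd _ _ _
  obtain ⟨r, hr⟩ : ∃ r : P.residueField p ⟶ CommRingCat.of Ω', Spec.map r ≫ P.fromSpecResidueField p = g' :=
    ⟨_, Scheme.descResidueField_stalkClosedPointTo_fromSpecResidueField (Ω' : Type u) P g'⟩
  let e := residueFieldIsoBase (pullback.snd f a) p hc
  have h1 : Spec.map r ≫ Spec.map e.inv = Spec.map (CommRingCat.ofHom ι) := by
    rw [SpecMap_residueFieldIsoBase_inv, reassoc_of% hr, hg']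
  show _ ≫ Spec.map e.hom ≫ _ = _
  rw [← h1, Category.assoc, ← Spec.map_comp_assoc e.hom e.inv, e.hom_inv_id, Spec.map_id, Category.id_comp, hr]

/-- Extending an embedding to an algebraically closed algebraic extension. -/
theorem exists_embedding {K₀ K Ω Ω' : Type u} [Field K₀] [Field K] [Field Ω] [Field Ω'] [IsAlgClosed Ω']
    [Algebra K₀ Ω] [Algebra.IsAlgebraic K₀ Ω] (i : K₀ →+* K) (r : K →+* Ω)
    (hir : r.comp i = algebraMap K₀ Ω) (Φ : K →+* Ω') :
    ∃ ι : Ω →+* Ω', ι.comp r = Φ := by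
  letI : Algebra K Ω := r.toAlgebra
  letI : Algebra K Ω' := Φ.toAlgebra
  letI : Algebra K₀ K := i.toAlgebra
  haveI : IsScalarTower K₀ K Ω :=
    IsScalarTower.of_algebraMap_eq fun c => (RingHom.congr_fun hir c).symm
  haveI : Algebra.IsAlgebraic K Ω := Algebra.IsAlgebraic.tower_top (K := K₀) K
  let σ : Ω →ₐ[K] Ω' := IsAlgClosed.lift
  exact ⟨σ.toRingHom, RingHom.ext σ.commutes⟩

/-- A finite scheme dominated by a geometric point with maps to finitely many finite schemes. -/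
theorem exists_common {Ω : Type u} [Field Ω] (a : Spec (CommRingCat.of Ω) ⟶ Y) {I : Type u}
    (T : I → Scheme.{u}) (π : ∀ i, T i ⟶ Y) [∀ i, IsFinite (π i)]
    (s : ∀ i, Spec (CommRingCat.of Ω) ⟶ T i) (hs : ∀ i, s i ≫ π i = a) (S : Finset I) :
    ∃ (Z : Scheme.{u}) (q : Z ⟶ Y) (z : Spec (CommRingCat.of Ω) ⟶ Z), IsFinite q ∧ z ≫ q = a ∧
      ∀ i ∈ S, ∃ t : Z ⟶ T i, t ≫ π i = q ∧ z ≫ t = s i := by
  classical
  induction S using Finset.induction_on with
  | empty => exact ⟨Y, 𝟙 Y, a, inferInstance, Category.comp_id _, fun i hi => absurd hi (Finset.notMem_empty i)⟩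
  | @insert j S hj ih =>
    obtain ⟨Z, q, z, hq, hz, ht⟩ := ih
    haveI := hq
    refine ⟨pullback q (π j), pullback.fst q (π j) ≫ q, pullback.lift z (s j) (hz.trans (hs j).symm),
      inferInstance, by rw [pullback.lift_fst_assoc, hz], fun i hi => ?_⟩
    rcases Finset.mem_insert.1 hi with rfl | hi
    · exact ⟨pullback.snd _ _, pullback.condition.symm, pullback.lift_snd _ _ _⟩
    · obtain ⟨t, ht1, ht2⟩ := ht i hi
      exact ⟨pullback.fst _ _ ≫ t, by rw [Category.assoc, ht1], by rw [pullback.lift_fst_assoc, ht2]⟩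

variable [IsNoetherian Y] [Y.IsSeparated]

/-- An injective map out of a valuation subring extends to the field. -/
theorem exists_extend {K L : Type u} [Field K] [Field L] (A : ValuationSubring K) (g : A →+* L)
    (hg : Function.Injective g) : ∃ Φ : K →+* L, Φ.comp A.subtype = g :=
  ⟨IsFractionRing.lift (A := A) hg, RingHom.ext fun c => IsFractionRing.lift_algebraMap hg c⟩

/-- Every specialization of the geometric point `z` lies over some geometric point `s` of the family,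
compatibly with all separated targets. -/
theorem exists_index (E : PreZeroHypercover.{u} Y) [Finite E.I₀] [∀ j, LocallyOfFiniteType (E.f j)]
    [∀ j, QuasiCompact (E.f j)] [∀ j, LocallyQuasiFinite (E.f j)]
    (hE : SGA1.UnivSubmersive (Sigma.desc E.f))
    {K₀ Ω : Type u} [Field K₀] [Field Ω] [IsAlgClosed Ω] [Algebra K₀ Ω] [Algebra.IsAlgebraic K₀ Ω]
    {Z : Scheme.{u}} (q : Z ⟶ Y) (ξ x : Z) (hsp : ξ ⤳ x)
    (rz : Z.residueField ξ ⟶ CommRingCat.of Ω) (i₀ : K₀ →+* Z.residueField ξ)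
    (hi₀ : rz.hom.comp i₀ = algebraMap K₀ Ω) :
    ∃ (j : E.I₀) (s : Spec (CommRingCat.of Ω) ⟶ E.X j),
      s ≫ E.f j = (Spec.map rz ≫ Z.fromSpecResidueField ξ) ≫ q ∧
      ∀ (T : Scheme.{u}) (o : E.X j ⟶ T) (π : T ⟶ Y) (τ : Z ⟶ T), IsSeparated π → o ≫ π = E.f j →
        τ ≫ π = q → (Spec.map rz ≫ Z.fromSpecResidueField ξ) ≫ τ = s ≫ o → τ x ∈ Set.range o := by
  haveI : LocallyOfFiniteType (Sigma.desc E.f) := IsZariskiLocalAtSource.sigmaDesc fun j => inferInstance
  haveI : CompactSpace (∐ E.X : Scheme.{u}) := by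
    haveI : ∀ j, CompactSpace (E.X j) := fun j => QuasiCompact.compactSpace_of_compactSpace (E.f j)
    exact (AlgebraicGeometry.sigmaMk E.X).compactSpace
  haveI : QuasiCompact (Sigma.desc E.f) := inferInstance
  have hV := SubtrRef.hasValLift_of_univSSubtrusive.{u, u} _ ((Groth.Agent.S14770.result _).1 hE)
  obtain ⟨A, l, hl, hlx⟩ := exists_valuationSubring_of_specializes hsp
  obtain ⟨W, hW, hW', φ, hφ, j₀, g₀, hg₀⟩ := hV (CommRingCat.of A) (l ≫ q)
  replace hg₀ : g₀ ≫ Sigma.desc E.f = Spec.map φ ≫ l ≫ q := hg₀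
  obtain ⟨j, hj⟩ := (AlgebraicGeometry.sigmaOpenCover E.X).exists_eq (g₀ (closedPoint W))
  obtain ⟨g, hg⟩ := exists_lift_of_closedPoint (Sigma.ι E.X j) g₀ hj
  have hgf : g ≫ E.f j = Spec.map φ ≫ l ≫ q := by rw [← hg₀, ← hg, Category.assoc, Sigma.ι_desc]
  let Ω' := AlgebraicClosure (FractionRing W)
  have hW0 : Function.Injective (algebraMap W Ω') :=
    (FaithfulSMul.algebraMap_injective (FractionRing W) Ω').comp (IsFractionRing.injective W (FractionRing W))
  have hinj : Function.Injective ((algebraMap W Ω').comp φ.hom) := fun c d hcd => hφ.1 (hW0 hcd)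
  obtain ⟨Φ, hΦ⟩ := exists_extend A ((algebraMap W Ω').comp φ.hom) hinj
  obtain ⟨ι, hι⟩ := exists_embedding i₀ rz.hom hi₀ Φ
  have hA : Spec.map (CommRingCat.ofHom (algebraMap W Ω')) ≫ Spec.map φ ≫ l =
      Spec.map (CommRingCat.ofHom ι) ≫ Spec.map rz ≫ Z.fromSpecResidueField ξ := by
    have e1 : φ ≫ CommRingCat.ofHom (algebraMap W Ω') =
        CommRingCat.ofHom A.subtype ≫ CommRingCat.ofHom Φ := by
      ext1
      exact hΦ.symm
    have e2 : rz ≫ CommRingCat.ofHom ι = CommRingCat.ofHom Φ := by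
      ext1
      exact hι
    rw [← Spec.map_comp_assoc, ← Spec.map_comp_assoc, e1, e2, Spec.map_comp, Category.assoc, hl]
  obtain ⟨s, hs, hsg⟩ := exists_descend (E.f j) ι ((Spec.map rz ≫ Z.fromSpecResidueField ξ) ≫ q)
    (Spec.map (CommRingCat.ofHom (algebraMap W Ω')) ≫ g) (by
      simp only [Category.assoc, hgf]
      rw [reassoc_of% hA])
  refine ⟨j, s, hs, fun T o π τ hπ hoπ hτπ hτz => ?_⟩
  haveI := hπ
  have key : Spec.map φ ≫ l ≫ τ = g ≫ o := by
    haveI : IsDominant (Spec.map (CommRingCat.ofHom (algebraMap W Ω'))) := by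
      rw [isDominant_iff, DenseRange, dense_iff_closure_eq, Set.eq_univ_iff_forall]
      intro w
      have : (Spec.map (CommRingCat.ofHom (algebraMap W Ω'))) (⊥ : PrimeSpectrum Ω') = (⊥ : PrimeSpectrum W) :=
        PrimeSpectrum.ext ((RingHom.injective_iff_ker_eq_bot _).1 hW0)
      refine closure_mono (Set.singleton_subset_iff.2 (?_ : (⊥ : PrimeSpectrum W) ∈ _))
        (specializes_iff_mem_closure.1 ((PrimeSpectrum.le_iff_specializes (⊥ : PrimeSpectrum W) w).1 bot_le))
      exact ⟨(⊥ : PrimeSpectrum Ω'), this⟩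
    refine ext_of_isDominant_of_isSeparated π ?_ (Spec.map (CommRingCat.ofHom (algebraMap W Ω'))) ?_
    · simp only [Category.assoc, hτπ, hoπ, hgf]
    · rw [Category.assoc] at hτz
      rw [reassoc_of% hA, hτz, ← Category.assoc, hsg, Category.assoc]
  refine ⟨g (closedPoint W), ?_⟩
  haveI := hφ.2
  rw [← Scheme.Hom.comp_apply, ← key, Scheme.Hom.comp_apply, Scheme.Hom.comp_apply]
  exact congrArg τ ((congrArg l (IsLocalRing.comap_closedPoint φ.hom)).trans hlx)

/-- One irreducible component: a finite scheme over it, covered by opens factoring through the family. -/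
theorem exists_piece (E : PreZeroHypercover.{u} Y) [Finite E.I₀] [∀ j, LocallyOfFiniteType (E.f j)]
    [∀ j, QuasiCompact (E.f j)] [∀ j, LocallyQuasiFinite (E.f j)] [∀ j, IsSeparated (E.f j)]
    (hE : SGA1.UnivSubmersive (Sigma.desc E.f)) (η : Y) :
    ∃ (Z : Scheme.{u}) (q : Z ⟶ Y), IsFinite q ∧ closure {η} ⊆ Set.range q ∧
      ∀ z : Z, ∃ (V : Z.Opens) (j : E.I₀) (h : (↑V : Scheme.{u}) ⟶ E.X j), z ∈ V ∧ h ≫ E.f j = V.ι ≫ q := by
  choose T o π ho hoc hπ hoπ using fun j => LocImmLib.exists_openImmersion_finite (E.f j)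
  let Ω := AlgebraicClosure (Y.residueField η)
  let a : Spec (CommRingCat.of Ω) ⟶ Y :=
    Spec.map (CommRingCat.ofHom (algebraMap (Y.residueField η) Ω)) ≫ Y.fromSpecResidueField η
  let I := Σ j : E.I₀, {s : Spec (CommRingCat.of Ω) ⟶ E.X j // s ≫ E.f j = a}
  haveI : ∀ j : E.I₀, Finite {s : Spec (CommRingCat.of Ω) ⟶ E.X j // s ≫ E.f j = a} :=
    fun j => finite_points (E.f j) a
  haveI : Finite I := inferInstance
  haveI := Fintype.ofFinite I
  haveI : ∀ i : I, IsFinite (π i.1) := fun i => hπ i.1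
  obtain ⟨Z₀, q₀, z₀, hq₀, hz₀, ht⟩ := exists_common a (fun i : I => T i.1) (fun i => π i.1)
    (fun i => i.2.1 ≫ o i.1) (fun i => by rw [Category.assoc, hoπ]; exact i.2.2) Finset.univ
  haveI := hq₀
  haveI : IsNoetherian Z₀ := by
    haveI : IsLocallyNoetherian Z₀ := LocallyOfFiniteType.isLocallyNoetherian q₀
    haveI : CompactSpace Z₀ := QuasiCompact.compactSpace_of_compactSpace q₀
    exact ⟨⟩
  haveI : QuasiCompact z₀ := inferInstance
  let Z := z₀.image
  let z : Spec (CommRingCat.of Ω) ⟶ Z := z₀.toImage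
  let q : Z ⟶ Y := z₀.imageι ≫ q₀
  have hz : z ≫ q = a := by rw [Scheme.Hom.toImage_imageι_assoc, hz₀]
  haveI : IsFinite q := inferInstance
  let ξ : Z := z (closedPoint Ω)
  have hξη : q ξ = η := by
    rw [← Scheme.Hom.comp_apply, hz, Scheme.Hom.comp_apply]
    exact Scheme.fromSpecResidueField_apply η _
  have hdense : ∀ x : Z, ξ ⤳ x := fun x => by
    rw [specializes_iff_mem_closure]
    have h := z.denseRange.closure_range
    have hr : Set.range z = {ξ} := by
      ext y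
      refine ⟨?_, fun hy => ⟨closedPoint Ω, hy.symm⟩⟩
      rintro ⟨w, rfl⟩
      exact congrArg z (Subsingleton.elim (α := PrimeSpectrum Ω) w (closedPoint Ω))
    rw [hr] at h
    rw [h]; trivial
  refine ⟨Z, q, inferInstance, ?_, fun x => ?_⟩
  · exact closure_minimal (Set.singleton_subset_iff.2 ⟨ξ, hξη⟩) q.isClosedMap.isClosed_range
  obtain ⟨rz, hrz⟩ : ∃ r : Z.residueField ξ ⟶ CommRingCat.of Ω, Spec.map r ≫ Z.fromSpecResidueField ξ = z :=
    ⟨_, Scheme.descResidueField_stalkClosedPointTo_fromSpecResidueField (Ω : Type u) Z z⟩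
  have hc : (Y.residueFieldCongr hξη).inv ≫ q.residueFieldMap ξ ≫ rz =
      CommRingCat.ofHom (algebraMap (Y.residueField η) Ω) := by
    refine Spec.map_injective ((cancel_mono (Y.fromSpecResidueField η)).1 ?_)
    rw [Spec.map_comp, Spec.map_comp, Category.assoc, Category.assoc]
    refine Eq.trans ?_ (show z ≫ q = _ from hz)
    rw [Scheme.residueFieldCongr_inv, Scheme.residueFieldCongr_fromSpecResidueField,
      Scheme.Hom.SpecMap_residueFieldMap_fromSpecResidueField, reassoc_of% hrz]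
  obtain ⟨j, s, hs, hmem⟩ := exists_index E hE (Ω := Ω) q ξ x (hdense x) rz
    ((Y.residueFieldCongr hξη).inv ≫ q.residueFieldMap ξ).hom (congrArg CommRingCat.Hom.hom hc)
  rw [hrz] at hs hmem
  rw [hz] at hs
  obtain ⟨t, htπ, htz⟩ := ht ⟨j, s, hs⟩ (Finset.mem_univ _)
  haveI := hπ j
  haveI := ho j
  let τ : Z ⟶ T j := z₀.imageι ≫ t
  have hτπ : τ ≫ π j = q := by
    show (z₀.imageι ≫ t) ≫ _ = z₀.imageι ≫ q₀
    rw [Category.assoc, htπ]
  have hτz : z ≫ τ = s ≫ o j := by
    show z₀.toImage ≫ z₀.imageι ≫ t = _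
    rw [Scheme.Hom.toImage_imageι_assoc, htz]
  have hx : τ x ∈ Set.range (o j) := hmem (T j) (o j) (π j) τ inferInstance (hoπ j) hτπ hτz
  refine ⟨τ ⁻¹ᵁ (o j).opensRange, j, IsOpenImmersion.lift (o j) ((τ ⁻¹ᵁ (o j).opensRange).ι ≫ τ) ?_, hx, ?_⟩
  · rintro _ ⟨y, rfl⟩
    exact y.2
  · rw [← hoπ j, ← Category.assoc, IsOpenImmersion.lift_fac, Category.assoc, hτπ]

theorem exists_refinement (E : PreZeroHypercover.{u} Y) [Finite E.I₀] [∀ j, LocallyOfFiniteType (E.f j)]
    [∀ j, QuasiCompact (E.f j)] [∀ j, LocallyQuasiFinite (E.f j)] [∀ j, IsSeparated (E.f j)]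
    (hE : SGA1.UnivSubmersive (Sigma.desc E.f)) :
    ∃ (Y' : Scheme.{u}) (p : Y' ⟶ Y) (n : ℕ) (V : Fin n → Y'.Opens), IsFinite p ∧ Surjective p ∧
      ⨆ i, V i = ⊤ ∧ ∀ i, ∃ (j : E.I₀) (h : (↑(V i) : Scheme.{u}) ⟶ E.X j), h ≫ E.f j = (V i).ι ≫ p := by
  let C : Type u := irreducibleComponents ↥Y
  haveI : Finite C := TopologicalSpace.NoetherianSpace.finite_irreducibleComponents.to_subtype
  choose Z q hq hsub hcov using fun c : C => exists_piece E hE (c.2.1.genericPoint)
  haveI := fun c => hq c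
  let p : (∐ Z : Scheme.{u}) ⟶ Y := Sigma.desc q
  haveI : IsFinite p := SGA1Q.isFinite_sigmaDesc _ hq
  haveI : CompactSpace (∐ Z : Scheme.{u}) := QuasiCompact.compactSpace_of_compactSpace p
  have hpt : ∀ x : (∐ Z : Scheme.{u}), ∃ (V : (∐ Z : Scheme.{u}).Opens) (j : E.I₀)
      (h : (↑V : Scheme.{u}) ⟶ E.X j), x ∈ V ∧ h ≫ E.f j = V.ι ≫ p := by
    intro x
    obtain ⟨c, z, rfl⟩ := (AlgebraicGeometry.sigmaOpenCover Z).exists_eq x
    obtain ⟨V, j, h, hz, hh⟩ := hcov c z
    refine ⟨Sigma.ι Z c ''ᵁ V, j, ((Sigma.ι Z c).isoImage V).inv ≫ h, ⟨z, hz, rfl⟩, ?_⟩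
    rw [Category.assoc, hh, Iso.inv_comp_eq, Scheme.Hom.isoImage_hom_ι_assoc, Sigma.ι_desc]
  choose V j h hmem hh using hpt
  obtain ⟨S, hS⟩ := isCompact_univ.elim_finite_subcover (fun x => (V x : Set (∐ Z : Scheme.{u})))
    (fun x => (V x).2) fun x _ => Set.mem_iUnion.2 ⟨x, hmem x⟩
  let e := S.equivFin
  refine ⟨_, p, S.card, fun i => V (e.symm i).1, inferInstance, ⟨fun y => ?_⟩, top_le_iff.1 fun x _ => ?_,
    fun i => ⟨_, _, hh _⟩⟩
  · obtain ⟨c, hc, hyc⟩ : ∃ c ∈ irreducibleComponents ↥Y, y ∈ c :=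
      ⟨irreducibleComponent y, irreducibleComponent_mem_irreducibleComponents y, mem_irreducibleComponent⟩
    have hcl : closure {(hc.1 : IsIrreducible c).genericPoint} = c := by
      have := hc.1.isGenericPoint_genericPoint_closure
      rwa [(isClosed_of_mem_irreducibleComponents c hc).closure_eq] at this
    obtain ⟨z, hz⟩ := hsub ⟨c, hc⟩ (hcl.symm ▸ hyc)
    exact ⟨Sigma.ι Z ⟨c, hc⟩ z, by rw [← Scheme.Hom.comp_apply, Sigma.ι_desc]; exact hz⟩
  · obtain ⟨w, hw, hxw⟩ := Set.mem_iUnion₂.1 (hS (Set.mem_univ x))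
    exact TopologicalSpace.Opens.mem_iSup.2 ⟨e ⟨w, hw⟩, by
      show x ∈ V (e.symm (e ⟨w, hw⟩)).1
      rw [Equiv.symm_apply_apply]; exact hxw⟩

end Groth.Agent.HTopCov.QfhRefine
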