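import Groth.Agent.S0591
import Groth.Agent.S2582
import Groth.Agent.S14785
import Groth.Agent.SubtrRef.HTop
import Groth.Agent.HTopCov.Spec
import Groth.Agent.HTopCov.Sheaf

/-!
Standard h coverings descend along cofiltered limits of affine schemes.
-/

set_option backward.isDefEq.respectTransparency false
set_option backward.isDefEq.respectTransparency.types false

universe w u

namespace Groth.Agent.HTopCov.StandardHLimit

open CategoryTheory CategoryTheory.Limits AlgebraicGeometry HTop IsLocalRing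

variable {I : Type u} [SmallCategory I] [IsCofiltered I] (D : I ⥤ Scheme.{u}) [∀ i, IsAffine (D.obj i)]
  (c : Cone D) (hc : IsLimit c)

/-- A model at stage `i` of a morphism to the limit. -/
structure Model {X : Scheme.{u}} (f : X ⟶ c.pt) (i : I) where
  obj : Scheme.{u}
  hom : obj ⟶ D.obj i
  proj : X ⟶ obj
  isPullback : IsPullback proj f hom (c.π.app i)
  lfp : LocallyOfFinitePresentation hom
  qc : QuasiCompact hom
  qs : QuasiSeparated hom

variable {D c}

/-- Push a model to a finer stage. -/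
noncomputable def Model.pull {X : Scheme.{u}} {f : X ⟶ c.pt} {i : I} (M : Model D c f i) {k : I} (φ : k ⟶ i) :
    Model D c f k where
  obj := pullback M.hom (D.map φ)
  hom := pullback.snd M.hom (D.map φ)
  proj := pullback.lift M.proj (f ≫ c.π.app k) (by rw [Category.assoc, c.w φ, M.isPullback.w])
  isPullback := by
    refine IsPullback.of_right ?_ (pullback.lift_snd _ _ _) (IsPullback.of_hasPullback M.hom (D.map φ))
    rw [pullback.lift_fst, c.w φ]
    exact M.isPullback
  lfp := MorphismProperty.pullback_snd (P := @LocallyOfFinitePresentation) _ _ M.lfp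
  qc := MorphismProperty.pullback_snd (P := @QuasiCompact) _ _ M.qc
  qs := MorphismProperty.pullback_snd (P := @QuasiSeparated) _ _ M.qs

include hc in
theorem exists_model {X : Scheme.{u}} (f : X ⟶ c.pt) [IsAffineHom f] [LocallyOfFinitePresentation f] :
    ∃ (i : I) (M : Model D c f i), IsAffineHom M.hom := by
  haveI : ∀ (i j : I) (a : i ⟶ j), IsAffineHom (D.map a) := fun i j a => inferInstance
  haveI : QuasiCompact f := inferInstance
  haveI : QuasiSeparated f := inferInstance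
  obtain ⟨i, Xi, fi, g, h1, h2, h3, hpb⟩ := Groth.Agent.S0591.result D c hc X f
  haveI := h1; haveI := h2; haveI := h3
  let M : Model D c f i := ⟨Xi, fi, g, hpb, h1, h2, h3⟩
  obtain ⟨k, φ, Xk, Yk, fk, gk, pY, pX, hYk, hXk, hk⟩ := Groth.Agent.S2582.result D c hc i fi (𝟙 (D.obj i))
    f (𝟙 c.pt) (c.π.app i) g (IsPullback.id_vert (c.π.app i)) hpb
  haveI : IsIso gk := MorphismProperty.of_isPullback (P := MorphismProperty.isomorphisms _) hYk
    (inferInstanceAs (IsIso (𝟙 (D.obj i))))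
  have e : IsPullback pX (fk ≫ gk) fi (D.map φ) := by
    have := hXk.paste_vert hYk
    rwa [Category.comp_id] at this
  refine ⟨k, M.pull φ, ?_⟩
  show IsAffineHom (pullback.snd fi (D.map φ))
  rw [← e.isoPullback_inv_snd]
  haveI := hk
  infer_instance

include hc in
theorem exists_descent [IsAffine c.pt] (V : PreZeroHypercover.{w} c.pt) (hV : IsStandardH V) :
    ∃ (i : I) (W : PreZeroHypercover.{w} (D.obj i)), IsStandardH W ∧ ∃ (σ : V.I₀ ≃ W.I₀)
      (e : ∀ j, V.X j ≅ pullback (c.π.app i) (W.f (σ j))),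
        ∀ j, (e j).hom ≫ pullback.fst (c.π.app i) (W.f (σ j)) = V.f j := by
  classical
  haveI := hV.finite_index
  haveI : ∀ j, IsAffine (V.X j) := hV.isAffine_obj
  haveI : ∀ j, LocallyOfFinitePresentation (V.f j) := hV.finitePresentation
  choose i M hM using fun j : V.I₀ => exists_model hc (V.f j)
  haveI := Fintype.ofFinite V.I₀
  obtain ⟨i₂, hi₂⟩ := IsCofiltered.inf_objs_exists (Finset.univ.image i)
  let φ : ∀ j, i₂ ⟶ i j := fun j => (hi₂ (Finset.mem_image_of_mem i (Finset.mem_univ j))).some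
  let M₂ : ∀ j, Model D c (V.f j) i₂ := fun j => (M j).pull (φ j)
  haveI : ∀ j, IsAffineHom (M₂ j).hom := fun j =>
    MorphismProperty.pullback_snd (P := @IsAffineHom) (M j).hom (D.map (φ j)) (hM j)
  haveI : ∀ j, LocallyOfFinitePresentation (M₂ j).hom := fun j => (M₂ j).lfp
  haveI : ∀ j, IsAffine (M₂ j).obj := fun j => isAffine_of_isAffineHom (M₂ j).hom
  obtain ⟨n, ⟨en⟩⟩ := Finite.exists_equiv_fin V.I₀
  let Z : ULift.{u} (Fin n) → Scheme.{u} := fun t => (M₂ (en.symm t.down)).obj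
  let f₀ : (∐ Z : Scheme.{u}) ⟶ D.obj i₂ := Sigma.desc fun t => (M₂ (en.symm t.down)).hom
  haveI : IsAffine (∐ Z : Scheme.{u}) := inferInstance
  haveI : LocallyOfFinitePresentation f₀ :=
    IsZariskiLocalAtSource.sigmaDesc (P := @LocallyOfFinitePresentation) fun t => inferInstance
  let π₂ := c.π.app i₂
  let fX := pullback.snd f₀ π₂
  have hVL : ∀ (R : CommRingCat.{u}) [IsDomain R] [ValuationRing R] (g : Spec R ⟶ c.pt),
      ∃ (R' : CommRingCat.{u}) (_ : IsDomain R') (_ : ValuationRing R') (φ : R ⟶ R'), IsExtVal R R' φ ∧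
        ∃ (j : V.I₀) (l : Spec R' ⟶ V.X j), l ≫ V.f j = Spec.map φ ≫ g :=
    fun R _ _ g => hasValLift_of_isVCover hV.isVCover R g
  have hf : Subtr.UnivSSubtrusive fX := SubtrRef.univSSubtrusive_of_hasValLift.{w} fX fun R _ _ g => by
    obtain ⟨R', hR, hR', ψ, hψ, j, l, hl⟩ := hVL R g
    have hj : (M₂ (en.symm (en j))).obj = (M₂ j).obj := by rw [Equiv.symm_apply_apply]
    have key : ∀ j' : V.I₀, j' = j → ∃ l' : Spec R' ⟶ (M₂ j').obj, l' ≫ (M₂ j').hom = (Spec.map ψ ≫ g) ≫ π₂ := by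
      intro j' hj'
      rw [hj']
      refine ⟨l ≫ (M₂ j).proj, ?_⟩
      rw [Category.assoc, (M₂ j).isPullback.w, ← Category.assoc, hl]
    obtain ⟨l', hl'⟩ := key _ (en.symm_apply_apply j)
    refine ⟨R', hR, hR', ψ, hψ, PUnit.unit, pullback.lift (l' ≫ Sigma.ι Z ⟨en j⟩) (Spec.map ψ ≫ g) ?_,
      pullback.lift_snd _ _ _⟩
    rw [Category.assoc, Sigma.ι_desc]
    exact hl'
  obtain ⟨i₃, ψ₃, Xi, Yi, fi, gi, pY, pX, hYi, hXi, hfi⟩ := Groth.Agent.S14785.result D c hc i₂ f₀ (𝟙 (D.obj i₂))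
    fX (𝟙 c.pt) π₂ (pullback.fst f₀ π₂) (IsPullback.id_vert π₂) (IsPullback.of_hasPullback f₀ π₂) hf
  let M₃ : ∀ j, Model D c (V.f j) i₃ := fun j => (M₂ j).pull ψ₃
  haveI : ∀ j, IsAffineHom (M₃ j).hom := fun j =>
    MorphismProperty.pullback_snd (P := @IsAffineHom) (M₂ j).hom (D.map ψ₃) inferInstance
  haveI : ∀ j, IsAffine (M₃ j).obj := fun j => isAffine_of_isAffineHom (M₃ j).hom
  let W : PreZeroHypercover.{w} (D.obj i₃) := ⟨V.I₀, fun j => (M₃ j).obj, fun j => (M₃ j).hom⟩
  haveI : IsIso gi := MorphismProperty.of_isPullback (P := MorphismProperty.isomorphisms _) hYi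
    (inferInstanceAs (IsIso (𝟙 (D.obj i₂))))
  have hW : IsStandardV W := by
    refine ⟨inferInstance, inferInstanceAs (Finite V.I₀), fun j => inferInstanceAs (IsAffine (M₃ j).obj),
      fun R _ _ g => ?_⟩
    obtain ⟨R', hR, hR', ψ, hψ, _j, l, hl⟩ :=
      SubtrRef.hasValLift_of_univSSubtrusive.{w} fi hfi R (g ≫ inv gi)
    replace hl : l ≫ fi = Spec.map ψ ≫ g ≫ inv gi := hl
    obtain ⟨t, ht⟩ := (AlgebraicGeometry.sigmaOpenCover Z).exists_eq ((l ≫ pX) (closedPoint R'))
    obtain ⟨l', hl'⟩ := exists_lift_of_closedPoint (Sigma.ι Z t) (l ≫ pX) ht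
    refine ⟨R', hR, hR', ψ, hψ, en.symm t.down, pullback.lift l' (Spec.map ψ ≫ g) ?_, pullback.lift_snd _ _ _⟩
    have h4 : pY = gi ≫ D.map ψ₃ := by
      have := hYi.w; rwa [Category.comp_id] at this
    calc l' ≫ (M₂ (en.symm t.down)).hom = (l' ≫ Sigma.ι Z t) ≫ f₀ := by rw [Category.assoc, Sigma.ι_desc]
      _ = l ≫ fi ≫ pY := by rw [hl', Category.assoc, hXi.w]
      _ = (Spec.map ψ ≫ g) ≫ D.map ψ₃ := by rw [reassoc_of% hl, h4, IsIso.inv_hom_id_assoc, Category.assoc]
  refine ⟨i₃, W, ⟨inferInstance, hW.finite_index, hW.isAffine_obj, fun j => (M₃ j).lfp, isVCover_of_standardV hW⟩,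
    Equiv.refl _, fun j => (M₃ j).isPullback.flip.isoPullback, fun j => ?_⟩
  exact (M₃ j).isPullback.flip.isoPullback_hom_fst

end Groth.Agent.HTopCov.StandardHLimit
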